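import Cfsg.Agent.H29.CosetCert.Word
import Cfsg.Agent.H29.CosetCert.Fi23.Table

/-! Stabilizer chain and conjugation words for Fi23, found outside Lean and checked here. -/

set_option autoImplicit false
set_option maxRecDepth 16000
set_option Elab.async false

namespace H29.CosetCert.Fi23Words

open H29.CosetCert

/-- Growth part. -/
noncomputable def g4_0 : List ℕ := [
  0x1bda0147f, 0x101bda01f7b, 0x301bda011d2, 0x401bda011c0, 0x501bda003f2, 0x801bda00566, 0x147f01973, 0x30147f01673,
  0x40147f01019, 0x80147f019fb, 0x401f7b0165d, 0x501f7b002ec, 0x2011d201505, 0x4011d200dd2, 0x11c000c48, 0x5011c0002ce,
  0x8011c0002c9, 0x20056600757, 0x101673014f6, 0x20167301664, 0x4016730101b, 0x801019011c3, 0x1019fb01481, 0x2019fb01480,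
  0x50165d0020b, 0x2ec001b2, 0x401505010c1, 0x2002c9003e8, 0x20b00126, 0x1b200235, 0x4001b200183]

/-- Level 4. -/
noncomputable def lev4 : WLevel where
  b := 7130
  U := [[0, 1],
    [0, 2],
    [0, 4],
    [3, 8, 0, 3],
    [8, 9, 0, 8],
    [3, 0, 4, 2, 9, 3, 8, 9, 3, 4, 2, 3],
    [3, 0, 9, 4, 2, 9, 2, 4, 0, 3],
    [3, 2, 9, 8, 0, 1, 8, 9, 1, 2, 0, 3],
    [3, 2, 4, 3, 8, 0, 3, 9, 0, 8, 3, 4, 2, 3]]
  m := 0x800000000000000000000000000000000000000000000000000000000000000000000000000000000000000000000000000000000000000000000000000000000000000000000000000000000000000000000000000000000000000000000000000000000000000000000000000000000000000040000000000000000000000000000000000000000000000000000000000000000000000000000000000000000000000000000000000000000000000080000000000000000000000000000000008000000000000000000000000000000000000000000000000000000000000000000000000000000000000000000000000000000000000000000000000000000000000000000000000000000000000000000000000000000000000000000000008001020000000000000000000000000000000000000000000000000000000000000000000000000000000000000200040000000000000000000000000000380000000000000000000000000000000000000000000000000000000000000000000000000000000000000000000000000000000000000000000000000000000000000000000000000000000000000000000000000040009000000000000000000000000000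000000000000000000000000000000000000200000000000000000000000000000000000000000a0000000000000000000000000000000000000000000000000000000000000000000000000000000000000000000000000000000000000000000000000000000000000000000000000400000000000000000000000000000000000000000000000000000000000000000000000000000000000000000000000001000000000000000000000000000000000000000000000000000000000000000000000000000000000000000000000000000000000000000000000000000000000000000000000000000000000000000000000000000000000000000000000000000000000000000000000000000000000000000000000000000000000000000000000000000000000000000000000000000000000000000000000000000080000000000000000000000000000000000000000000000000000000000000000000000000000000000000000000000000000000000000000000000000004000000000000000000000000000000000000000000000000000000000000000000000000000000000000000000004010000000000000000000000000000000000000000000000000000000000000010000000420000000000000000000000000000000000002000000000080000000000000000000004000000000008000000000000000000000040000000000000000000000000000000000000000000000000000000000000000000000000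
  grow := g4_0
  sz := 32

theorem grow_ok4 : growOK Fi23Data.T lev4.U lev4.m lev4.grow (2 ^ lev4.b) = true := by decide +kernel

theorem count_ok4 : (countIn lev4.m.testBit 0 31671 == lev4.sz) = true := by decide +kernel

end H29.CosetCert.Fi23Words
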