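import Cfsg.Agent.H29.CosetCert.Word
import Cfsg.Agent.H29.CosetCert.Fi23.Table

/-! Stabilizer chain and conjugation words for Fi23, found outside Lean and checked here. -/

set_option autoImplicit false
set_option maxRecDepth 16000
set_option Elab.async false

namespace H29.CosetCert.Fi23Words

open H29.CosetCert

/-- Growth part. -/
noncomputable def g5_0 : List ℕ := [
  0x220302202, 0x102203019e0, 0x20220302628, 0x302203009e0, 0x402203014b4, 0x70220300cfa, 0x10220201bc5, 0x20220201473,
  0x19e00163e, 0x2009e0005a2, 0x4009e00031f, 0x1014b401966, 0x3014b40026c, 0x400cfa0056b]

/-- Level 5. -/
noncomputable def lev5 : WLevel where
  b := 8707
  U := [[0, 4],
    [2, 1, 0, 2],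
    [2, 0, 3, 8, 0, 3, 0, 2],
    [1, 0, 1, 0, 3, 0, 4, 2, 9, 3, 8, 9, 3, 4, 2, 3, 0, 1],
    [1, 0, 3, 0, 8, 3, 2, 4, 8, 9, 0, 8, 3, 8, 0, 3, 0, 1],
    [2, 0, 3, 2, 9, 8, 0, 1, 8, 9, 1, 2, 0, 3, 0, 2],
    [3, 0, 8, 3, 4, 0, 8, 0, 9, 8, 0, 2, 8, 9, 0, 8, 0, 4, 3, 8, 0, 3],
    [1, 0, 3, 0, 8, 3, 4, 0, 3, 2, 4, 3, 8, 0, 3, 9, 0, 8, 3, 4, 2, 3, 0, 4, 3, 8, 0, 3, 0, 1]]
  m := 0x10000000000000000000000000000000000000000000000000000000000000000000000000000000000000000000000000000000000000000000000000000000000000000000000000000000000000000000000000000000000000000000000000000000000000000000000000000000000000000000000000000000000000000000000000c0000000000000000000000000000000000000000000000000000000000000000000000000000000000000000000000000000000000000000000000000000000000000000000000000000000000000000000000000000000000000000000000000000000000000000000000000000000000000000000000000000000000000000000000000000000000000000000000000000000000000000000000000000000000000000000000000000000000000000000000000000000000000000000000000000000000000020000000000000000000000000000000000000000000000000000000000000000000000000000000000000000000000000000000000000000000000001000000000000000000000000000000400000000000000000000000000000000000000000000000000000000000000000000000000000000000000000000000000000000000000000000000000000000000000000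000000000000000000000000000000000000000000000000000000000000000040000000000000000000000000000000000000000000000000000000000000000000000000000000000000000000000000100000000000000008000000000000000000000000000000000000000000000000000000000000000000000000000000000000000000000000000000000000000000000000000000000000000000000000000000000000000000000000000000000000000000000000000000000000000000000000000000000000000000000000000000000000000000000000000000000000000000000000000000000000000000000000000000000000000000000000000000000000000000000000000000000000000000000000000000000000000000000000000000000000000000000000000000000000000000000000000000000000000000000400000000000000000000000000000000000000000000000000000000000000000000000000000000000000000000000000000000000000000000000000000000000000000000000000000000000000000000000000000000000000000000000000000100000000000000000000000000000000000000000000000000000000000000000000000000000000000000000000000000000000000000000000000000000000000000000000000000000000000000000000000000000000000000000000000000000000000000000000000000000000000000000000000000000000000000000000000000000004000000000000080000000000000000000000000000000000000000000000000000000000000000000000000000000000000000000000000000000000000000000000000000000000000000000000000080000000000000000000000000000000000000000000100000000000000000000000000000000000000000000000000000000000000000000000000000000000000000000000000000000000000000000000000000000000000000000000000000000000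
  grow := g5_0
  sz := 15

theorem grow_ok5 : growOK Fi23Data.T lev5.U lev5.m lev5.grow (2 ^ lev5.b) = true := by decide +kernel

theorem count_ok5 : (countIn lev5.m.testBit 0 31671 == lev5.sz) = true := by decide +kernel

end H29.CosetCert.Fi23Words
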