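import Cfsg.Agent.H29.CosetCert.Word
import Cfsg.Agent.H29.CosetCert.Fi23.Table

/-! Stabilizer chain and conjugation words for Fi23, found outside Lean and checked here. -/

set_option autoImplicit false
set_option maxRecDepth 16000
set_option Elab.async false

namespace H29.CosetCert.Fi23Words

open H29.CosetCert

/-- Growth part. -/
noncomputable def g6_0 : List ℕ := [
  0x100022000d7, 0x20002200116, 0x30002200305]

/-- Level 6. -/
noncomputable def lev6 : WLevel where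
  b := 34
  U := [[0, 4, 0, 4],
    [2, 1, 3, 8, 0, 3, 0, 2],
    [4, 0, 1, 0, 3, 0, 8, 3, 2, 4, 8, 9, 0, 8, 3, 8, 0, 3, 0, 1, 0, 4],
    [1, 0, 1, 0, 3, 0, 4, 2, 9, 3, 8, 9, 3, 4, 2, 3, 0, 1, 2, 0, 3, 8, 0, 3, 0, 2],
    [1, 0, 3, 0, 8, 3, 8, 0, 9, 8, 4, 2, 3, 8, 0, 3, 0, 1, 2, 0, 1, 2, 1, 0, 1, 0, 3, 0, 4, 2, 9, 3, 8, 9, 3, 4, 2, 3, 0, 1, 2, 0, 3, 8, 0, 3, 0, 2, 0, 4],
    [4, 0, 2, 0, 1, 0, 3, 2, 9, 8, 0, 1, 8, 9, 1, 2, 0, 3, 0, 1, 0, 2, 0, 4],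
    [2, 0, 3, 0, 8, 3, 0, 2, 1, 0, 3, 0, 8, 3, 2, 4, 8, 9, 0, 8, 3, 8, 0, 3, 0, 1, 0, 4, 2, 1, 0, 2],
    [1, 0, 3, 0, 8, 3, 8, 0, 9, 8, 4, 2, 3, 8, 0, 3, 0, 1, 3, 0, 8, 3, 4, 0, 8, 0, 9, 8, 0, 2, 8, 9, 0, 8, 0, 4, 3, 8, 0, 3, 0, 4, 2, 1, 0, 2]]
  m := 0x20000000000000000000000000000000000000000000000000000000000000000000000000000000000000000000000000000000000000000000000000004000000000000000800000000000000000000000000000000000000000000400000000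
  grow := g6_0
  sz := 4

theorem grow_ok6 : growOK Fi23Data.T lev6.U lev6.m lev6.grow (2 ^ lev6.b) = true := by decide +kernel

theorem count_ok6 : (countIn lev6.m.testBit 0 31671 == lev6.sz) = true := by decide +kernel

end H29.CosetCert.Fi23Words
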