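import Cfsg.Agent.H29.CosetCert.Word
import Cfsg.Agent.H29.CosetCert.Fi23.Table

/-! Stabilizer chain and conjugation words for Fi23, found outside Lean and checked here. -/

set_option autoImplicit false
set_option maxRecDepth 16000
set_option Elab.async false

namespace H29.CosetCert.Fi23Words

open H29.CosetCert

/-- Growth part. -/
noncomputable def g8_0 : List ℕ := [
  0x101d3100e76]

/-- Level 8. -/
noncomputable def lev8 : WLevel where
  b := 7473
  U := [[0, 4, 0, 4],
    [4, 0, 1, 0, 3, 0, 8, 3, 8, 0, 9, 8, 4, 2, 3, 8, 0, 3, 0, 1, 0, 4, 1, 0, 3, 0, 8, 3, 8, 0, 9, 8, 4, 2, 3, 8, 0, 3, 0, 1, 2, 0, 1, 2, 1, 0, 1, 0, 3, 0, 4, 2, 9, 3, 8, 9, 3, 4, 2, 3, 0, 1, 2, 0, 3, 8, 0, 3, 0, 2, 0, 4],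
    [1, 0, 1, 0, 3, 0, 4, 2, 9, 3, 8, 9, 3, 4, 2, 3, 0, 1, 2, 0, 3, 8, 0, 3, 0, 1, 0, 2, 1, 0, 3, 2, 4, 3, 9, 8, 3, 9, 2, 4, 0, 3, 0, 1, 0, 1, 2, 1, 3, 8, 0, 3, 0, 2, 4, 0, 1, 0, 3, 0, 8, 3, 2, 4, 8, 9, 0, 8, 3, 8, 0, 3, 0, 1, 0, 4],
    [4, 0, 1, 0, 3, 0, 8, 3, 8, 0, 9, 8, 4, 2, 3, 8, 0, 3, 0, 1, 0, 4, 2, 0, 3, 0, 8, 3, 1, 2, 4, 0, 1, 0, 3, 0, 8, 3, 2, 4, 8, 9, 0, 8, 3, 8, 0, 3, 0, 1, 0, 4, 2, 1, 3, 8, 0, 3, 0, 2],
    [2, 0, 3, 0, 8, 3, 1, 0, 3, 0, 8, 3, 0, 2, 1, 0, 3, 2, 4, 3, 9, 8, 3, 9, 2, 4, 0, 3, 0, 1, 0, 1, 4, 0, 1, 0, 3, 0, 8, 3, 2, 4, 8, 9, 0, 8, 2, 4, 8, 9, 0, 8, 3, 8, 0, 3, 0, 1, 0, 4, 1, 0, 1, 0, 3, 0, 4, 2, 9, 3, 8, 9, 3, 4, 2, 3, 0, 1, 2, 0, 3, 8, 0, 3, 0, 1, 3, 8, 0, 3, 0, 2]]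
  m := 0x20000000000000000000000000000000000000000000000000000000000000000000000000000000000000000000000000000000000000000000000000000000000000000000000000000000000000000000000000000000000000000000000000000000000000000000000000000000000000000000000000000000000000000000000000000000000000000000000000000000000000000000000000000000000000000000000000000000000000000000000000000000000000000000000000000000000000000000000000000000000000000000000000000000000000000000000000000000000000000000000000000000000000000000000000000000000000000000000000000000000000000000000000000000000000000000000000000000000000000000000000000000000000000000000000000000000000000000000000000000000000000000000000000000000000000000000000000000000000000000000000000000000000000000000000000000000000000000000000000000000000000000000000000000000000000000000000000000000000000000000000000000000000000000000000000000000000000000000000000000000000000000000000000000000000000000000000000004000000000000000000000000000000000000000000000000000000000000000000000000000000000000000000000000000000000000000000000000000000000000000000000000000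0000000000000000000000000000000000000000000000000000000000000000000000000000000000000000000000000000000000000000000000000000000000000000000000000000000000000000000000000000000000000000000000000000000000000000000000000000000000000000000000000000000000000000000000000000000000000000000000000000000000000000000000000000000000000000000000000000000000000000000000000000000000000000000000000000000000000000000000000000000000000000000000000000000000000000000000000000000000000000000000000000000000000000000000000000000000000000000000000000000000000000000000000000000000000000000000000000000000000000000000000000000000000000000000000000000000000000000000000000000000000000000000000000000000000000000000000000000000000000000000000000000000000000000000000000000000000000000000000000000000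
  grow := g8_0
  sz := 2

theorem grow_ok8 : growOK Fi23Data.T lev8.U lev8.m lev8.grow (2 ^ lev8.b) = true := by decide +kernel

theorem count_ok8 : (countIn lev8.m.testBit 0 31671 == lev8.sz) = true := by decide +kernel

end H29.CosetCert.Fi23Words
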