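import Cfsg.Agent.H29.CosetCert.Fi23Order.W0
import Cfsg.Agent.H29.CosetCert.Fi23Order.W1
import Cfsg.Agent.H29.CosetCert.Fi23Order.W2
import Cfsg.Agent.H29.CosetCert.Fi23Order.W3
import Cfsg.Agent.H29.CosetCert.Fi23Order.W4
import Cfsg.Agent.H29.CosetCert.Fi23Order.W5
import Cfsg.Agent.H29.CosetCert.Fi23Order.W6
import Cfsg.Agent.H29.CosetCert.Fi23Order.W7
import Cfsg.Agent.H29.CosetCert.Fi23Order.W8
import Cfsg.Agent.H29.CosetCert.Fi23Order.W9
import Cfsg.Agent.H29.CosetCert.Word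
import Cfsg.Agent.H29.CosetCert.Fi23.Table

/-! Stabilizer chain and conjugation words for Fi23, found outside Lean and checked here. -/

set_option autoImplicit false
set_option maxRecDepth 16000
set_option Elab.async false

namespace H29.CosetCert.Fi23Words

open H29.CosetCert

/-- The chain. -/
noncomputable def levels : List WLevel := [lev0, lev1, lev2, lev3, lev4, lev5, lev6, lev7, lev8, lev9]

theorem chainW_cons {T : ℕ → ℕ → ℕ} {n : ℕ} {l : WLevel} {rest : List WLevel}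
    (h1 : (Nat.blt l.b n && rest.all fun r => r.U.all fun u => runR T u l.b == l.b) = true)
    (h2 : growOK T l.U l.m l.grow (2 ^ l.b) = true) (h3 : (countIn l.m.testBit 0 n == l.sz) = true)
    (h4 : chainW T n rest = true) : chainW T n (l :: rest) = true := by
  rw [Bool.and_eq_true] at h1
  simp only [chainW, h1.1, h1.2, h2, h3, h4, Bool.and_self]

theorem chain_ok : chainW Fi23Data.T 31671 levels = true :=
  chainW_cons (by decide +kernel) grow_ok0 count_ok0 <|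
  chainW_cons (by decide +kernel) grow_ok1 count_ok1 <|
  chainW_cons (by decide +kernel) grow_ok2 count_ok2 <|
  chainW_cons (by decide +kernel) grow_ok3 count_ok3 <|
  chainW_cons (by decide +kernel) grow_ok4 count_ok4 <|
  chainW_cons (by decide +kernel) grow_ok5 count_ok5 <|
  chainW_cons (by decide +kernel) grow_ok6 count_ok6 <|
  chainW_cons (by decide +kernel) grow_ok7 count_ok7 <|
  chainW_cons (by decide +kernel) grow_ok8 count_ok8 <|
  chainW_cons (by decide +kernel) grow_ok9 count_ok9 <|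
  rfl

theorem sizes : (levels.map WLevel.sz).prod = 4089470473293004800 := by decide +kernel

/-- An element of order 17. -/
def x : List ℕ := [0, 4, 0, 3, 8, 7, 3, 7, 1, 6, 7, 8, 6, 8, 4, 5, 3, 2, 6, 5, 0, 2, 0, 1, 4, 6, 2, 0, 1]

/-- Every generator as a product of conjugates. -/
def items : List WItem := [
  ⟨0, none, [[1, 2, 3, 8, 4, 5, 3, 4, 2, 3, 8, 6, 8, 3, 4, 3], [1, 2, 3, 8, 4, 5, 3, 4, 2, 3, 8, 6, 8, 3, 4, 8, 6, 2], [1, 2, 3, 8, 4, 5, 3, 4, 2, 3, 8, 6, 8, 3, 4, 3], [1, 2, 3, 8, 4, 5, 3, 4, 2, 3, 8, 6, 8, 3, 4, 8, 6, 2], [1, 2, 3, 8, 4, 5, 3, 4, 2, 3, 8, 6, 8, 3, 4, 3], [1, 2, 3, 8, 4, 5, 3, 4, 2, 3, 8, 6, 8, 3, 4, 8, 6, 2]]⟩,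
  ⟨1, some 0, [[0, 1]]⟩,
  ⟨2, some 1, [[1, 2]]⟩,
  ⟨3, some 2, [[2, 3]]⟩,
  ⟨4, some 3, [[3, 4]]⟩,
  ⟨8, some 3, [[3, 8]]⟩,
  ⟨5, some 4, [[4, 5]]⟩,
  ⟨6, some 5, [[5, 6]]⟩,
  ⟨7, some 6, [[6, 7]]⟩,
  ⟨9, some 8, [[8, 9]]⟩]

/-- The base. -/
def base : List ℕ := [0, 1, 2, 6537, 7130, 8707, 34, 5266, 7473, 13613]

theorem base_eq : levels.map WLevel.b = base := by decide +kernel

theorem pow_ok : sameAt Fi23Data.T base (List.replicate 17 x).flatten [] = true := by decide +kernel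

theorem items_ok : itemsW Fi23Data.T base 10 x items [] = true := by decide +kernel

end H29.CosetCert.Fi23Words
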