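import Cfsg.Agent.H29.CosetCert.Fi23Order.L0C
import Cfsg.Agent.H29.CosetCert.Fi23Order.L0S0
import Cfsg.Agent.H29.CosetCert.Fi23Order.L0S1
import Cfsg.Agent.H29.CosetCert.Fi23Order.L0S2
import Cfsg.Agent.H29.CosetCert.Fi23Order.L0S3
import Cfsg.Agent.H29.CosetCert.Fi23Order.L0S4
import Cfsg.Agent.H29.CosetCert.Fi23Order.L0S5
import Cfsg.Agent.H29.CosetCert.Fi23Order.L0S6
import Cfsg.Agent.H29.CosetCert.Fi23Order.L0S7
import Cfsg.Agent.H29.CosetCert.Fi23Order.L0S8
import Cfsg.Agent.H29.CosetCert.Fi23Order.L0S9
import Cfsg.Agent.H29.CosetCert.Fi23Order.L0S10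
import Cfsg.Agent.H29.CosetCert.Fi23Order.L0S11
import Cfsg.Agent.H29.CosetCert.Fi23Order.L0S12
import Cfsg.Agent.H29.CosetCert.Fi23Order.L0S13
import Cfsg.Agent.H29.CosetCert.Fi23Order.L0S14
import Cfsg.Agent.H29.CosetCert.Fi23Order.L0S15
import Cfsg.Agent.H29.CosetCert.Fi23Order.L0S16

/-! Certificate data for the order of Fi23, produced outside Lean and checked here. -/

set_option autoImplicit false
set_option maxRecDepth 16000
set_option Elab.async false

namespace H29.CosetCert.Fi23Lvl0

open H29.CosetCert

theorem deds : ∀ k, lvl.nd ≤ k → k < lvl.N → ∃ s, chkDed lvl.F lvl.R lvl.S k s = true := by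
  intro k h1 h2
  change 19035 ≤ k at h1
  change k < 87631 at h2
  by_cases c0 : k < 19291
  · exact chkList_get _ _ _ st0 19035 st0_ok.1 k (by omega) (by rw [st0_ok.2]; omega)
  by_cases c1 : k < 19547
  · exact chkList_get _ _ _ st1 19291 st1_ok.1 k (by omega) (by rw [st1_ok.2]; omega)
  by_cases c2 : k < 19803
  · exact chkList_get _ _ _ st2 19547 st2_ok.1 k (by omega) (by rw [st2_ok.2]; omega)
  by_cases c3 : k < 20059
  · exact chkList_get _ _ _ st3 19803 st3_ok.1 k (by omega) (by rw [st3_ok.2]; omega)
  by_cases c4 : k < 20315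
  · exact chkList_get _ _ _ st4 20059 st4_ok.1 k (by omega) (by rw [st4_ok.2]; omega)
  by_cases c5 : k < 20571
  · exact chkList_get _ _ _ st5 20315 st5_ok.1 k (by omega) (by rw [st5_ok.2]; omega)
  by_cases c6 : k < 20827
  · exact chkList_get _ _ _ st6 20571 st6_ok.1 k (by omega) (by rw [st6_ok.2]; omega)
  by_cases c7 : k < 21083
  · exact chkList_get _ _ _ st7 20827 st7_ok.1 k (by omega) (by rw [st7_ok.2]; omega)
  by_cases c8 : k < 21339
  · exact chkList_get _ _ _ st8 21083 st8_ok.1 k (by omega) (by rw [st8_ok.2]; omega)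
  by_cases c9 : k < 21595
  · exact chkList_get _ _ _ st9 21339 st9_ok.1 k (by omega) (by rw [st9_ok.2]; omega)
  by_cases c10 : k < 21851
  · exact chkList_get _ _ _ st10 21595 st10_ok.1 k (by omega) (by rw [st10_ok.2]; omega)
  by_cases c11 : k < 22107
  · exact chkList_get _ _ _ st11 21851 st11_ok.1 k (by omega) (by rw [st11_ok.2]; omega)
  by_cases c12 : k < 22363
  · exact chkList_get _ _ _ st12 22107 st12_ok.1 k (by omega) (by rw [st12_ok.2]; omega)
  by_cases c13 : k < 22619
  · exact chkList_get _ _ _ st13 22363 st13_ok.1 k (by omega) (by rw [st13_ok.2]; omega)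
  by_cases c14 : k < 22875
  · exact chkList_get _ _ _ st14 22619 st14_ok.1 k (by omega) (by rw [st14_ok.2]; omega)
  by_cases c15 : k < 23131
  · exact chkList_get _ _ _ st15 22875 st15_ok.1 k (by omega) (by rw [st15_ok.2]; omega)
  by_cases c16 : k < 23387
  · exact chkList_get _ _ _ st16 23131 st16_ok.1 k (by omega) (by rw [st16_ok.2]; omega)
  by_cases c17 : k < 23643
  · exact chkList_get _ _ _ st17 23387 st17_ok.1 k (by omega) (by rw [st17_ok.2]; omega)
  by_cases c18 : k < 23899
  · exact chkList_get _ _ _ st18 23643 st18_ok.1 k (by omega) (by rw [st18_ok.2]; omega)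
  by_cases c19 : k < 24155
  · exact chkList_get _ _ _ st19 23899 st19_ok.1 k (by omega) (by rw [st19_ok.2]; omega)
  by_cases c20 : k < 24411
  · exact chkList_get _ _ _ st20 24155 st20_ok.1 k (by omega) (by rw [st20_ok.2]; omega)
  by_cases c21 : k < 24667
  · exact chkList_get _ _ _ st21 24411 st21_ok.1 k (by omega) (by rw [st21_ok.2]; omega)
  by_cases c22 : k < 24923
  · exact chkList_get _ _ _ st22 24667 st22_ok.1 k (by omega) (by rw [st22_ok.2]; omega)
  by_cases c23 : k < 25179
  · exact chkList_get _ _ _ st23 24923 st23_ok.1 k (by omega) (by rw [st23_ok.2]; omega)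
  by_cases c24 : k < 25435
  · exact chkList_get _ _ _ st24 25179 st24_ok.1 k (by omega) (by rw [st24_ok.2]; omega)
  by_cases c25 : k < 25691
  · exact chkList_get _ _ _ st25 25435 st25_ok.1 k (by omega) (by rw [st25_ok.2]; omega)
  by_cases c26 : k < 25947
  · exact chkList_get _ _ _ st26 25691 st26_ok.1 k (by omega) (by rw [st26_ok.2]; omega)
  by_cases c27 : k < 26203
  · exact chkList_get _ _ _ st27 25947 st27_ok.1 k (by omega) (by rw [st27_ok.2]; omega)
  by_cases c28 : k < 26459
  · exact chkList_get _ _ _ st28 26203 st28_ok.1 k (by omega) (by rw [st28_ok.2]; omega)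
  by_cases c29 : k < 26715
  · exact chkList_get _ _ _ st29 26459 st29_ok.1 k (by omega) (by rw [st29_ok.2]; omega)
  by_cases c30 : k < 26971
  · exact chkList_get _ _ _ st30 26715 st30_ok.1 k (by omega) (by rw [st30_ok.2]; omega)
  by_cases c31 : k < 27227
  · exact chkList_get _ _ _ st31 26971 st31_ok.1 k (by omega) (by rw [st31_ok.2]; omega)
  by_cases c32 : k < 27483
  · exact chkList_get _ _ _ st32 27227 st32_ok.1 k (by omega) (by rw [st32_ok.2]; omega)
  by_cases c33 : k < 27739
  · exact chkList_get _ _ _ st33 27483 st33_ok.1 k (by omega) (by rw [st33_ok.2]; omega)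
  by_cases c34 : k < 27995
  · exact chkList_get _ _ _ st34 27739 st34_ok.1 k (by omega) (by rw [st34_ok.2]; omega)
  by_cases c35 : k < 28251
  · exact chkList_get _ _ _ st35 27995 st35_ok.1 k (by omega) (by rw [st35_ok.2]; omega)
  by_cases c36 : k < 28507
  · exact chkList_get _ _ _ st36 28251 st36_ok.1 k (by omega) (by rw [st36_ok.2]; omega)
  by_cases c37 : k < 28763
  · exact chkList_get _ _ _ st37 28507 st37_ok.1 k (by omega) (by rw [st37_ok.2]; omega)
  by_cases c38 : k < 29019
  · exact chkList_get _ _ _ st38 28763 st38_ok.1 k (by omega) (by rw [st38_ok.2]; omega)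
  by_cases c39 : k < 29275
  · exact chkList_get _ _ _ st39 29019 st39_ok.1 k (by omega) (by rw [st39_ok.2]; omega)
  by_cases c40 : k < 29531
  · exact chkList_get _ _ _ st40 29275 st40_ok.1 k (by omega) (by rw [st40_ok.2]; omega)
  by_cases c41 : k < 29787
  · exact chkList_get _ _ _ st41 29531 st41_ok.1 k (by omega) (by rw [st41_ok.2]; omega)
  by_cases c42 : k < 30043
  · exact chkList_get _ _ _ st42 29787 st42_ok.1 k (by omega) (by rw [st42_ok.2]; omega)
  by_cases c43 : k < 30299
  · exact chkList_get _ _ _ st43 30043 st43_ok.1 k (by omega) (by rw [st43_ok.2]; omega)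
  by_cases c44 : k < 30555
  · exact chkList_get _ _ _ st44 30299 st44_ok.1 k (by omega) (by rw [st44_ok.2]; omega)
  by_cases c45 : k < 30811
  · exact chkList_get _ _ _ st45 30555 st45_ok.1 k (by omega) (by rw [st45_ok.2]; omega)
  by_cases c46 : k < 31067
  · exact chkList_get _ _ _ st46 30811 st46_ok.1 k (by omega) (by rw [st46_ok.2]; omega)
  by_cases c47 : k < 31323
  · exact chkList_get _ _ _ st47 31067 st47_ok.1 k (by omega) (by rw [st47_ok.2]; omega)
  by_cases c48 : k < 31579
  · exact chkList_get _ _ _ st48 31323 st48_ok.1 k (by omega) (by rw [st48_ok.2]; omega)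
  by_cases c49 : k < 31835
  · exact chkList_get _ _ _ st49 31579 st49_ok.1 k (by omega) (by rw [st49_ok.2]; omega)
  by_cases c50 : k < 32091
  · exact chkList_get _ _ _ st50 31835 st50_ok.1 k (by omega) (by rw [st50_ok.2]; omega)
  by_cases c51 : k < 32347
  · exact chkList_get _ _ _ st51 32091 st51_ok.1 k (by omega) (by rw [st51_ok.2]; omega)
  by_cases c52 : k < 32603
  · exact chkList_get _ _ _ st52 32347 st52_ok.1 k (by omega) (by rw [st52_ok.2]; omega)
  by_cases c53 : k < 32859
  · exact chkList_get _ _ _ st53 32603 st53_ok.1 k (by omega) (by rw [st53_ok.2]; omega)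
  by_cases c54 : k < 33115
  · exact chkList_get _ _ _ st54 32859 st54_ok.1 k (by omega) (by rw [st54_ok.2]; omega)
  by_cases c55 : k < 33371
  · exact chkList_get _ _ _ st55 33115 st55_ok.1 k (by omega) (by rw [st55_ok.2]; omega)
  by_cases c56 : k < 33627
  · exact chkList_get _ _ _ st56 33371 st56_ok.1 k (by omega) (by rw [st56_ok.2]; omega)
  by_cases c57 : k < 33883
  · exact chkList_get _ _ _ st57 33627 st57_ok.1 k (by omega) (by rw [st57_ok.2]; omega)
  by_cases c58 : k < 34139
  · exact chkList_get _ _ _ st58 33883 st58_ok.1 k (by omega) (by rw [st58_ok.2]; omega)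
  by_cases c59 : k < 34395
  · exact chkList_get _ _ _ st59 34139 st59_ok.1 k (by omega) (by rw [st59_ok.2]; omega)
  by_cases c60 : k < 34651
  · exact chkList_get _ _ _ st60 34395 st60_ok.1 k (by omega) (by rw [st60_ok.2]; omega)
  by_cases c61 : k < 34907
  · exact chkList_get _ _ _ st61 34651 st61_ok.1 k (by omega) (by rw [st61_ok.2]; omega)
  by_cases c62 : k < 35163
  · exact chkList_get _ _ _ st62 34907 st62_ok.1 k (by omega) (by rw [st62_ok.2]; omega)
  by_cases c63 : k < 35419
  · exact chkList_get _ _ _ st63 35163 st63_ok.1 k (by omega) (by rw [st63_ok.2]; omega)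
  by_cases c64 : k < 35675
  · exact chkList_get _ _ _ st64 35419 st64_ok.1 k (by omega) (by rw [st64_ok.2]; omega)
  by_cases c65 : k < 35931
  · exact chkList_get _ _ _ st65 35675 st65_ok.1 k (by omega) (by rw [st65_ok.2]; omega)
  by_cases c66 : k < 36187
  · exact chkList_get _ _ _ st66 35931 st66_ok.1 k (by omega) (by rw [st66_ok.2]; omega)
  by_cases c67 : k < 36443
  · exact chkList_get _ _ _ st67 36187 st67_ok.1 k (by omega) (by rw [st67_ok.2]; omega)
  by_cases c68 : k < 36699
  · exact chkList_get _ _ _ st68 36443 st68_ok.1 k (by omega) (by rw [st68_ok.2]; omega)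
  by_cases c69 : k < 36955
  · exact chkList_get _ _ _ st69 36699 st69_ok.1 k (by omega) (by rw [st69_ok.2]; omega)
  by_cases c70 : k < 37211
  · exact chkList_get _ _ _ st70 36955 st70_ok.1 k (by omega) (by rw [st70_ok.2]; omega)
  by_cases c71 : k < 37467
  · exact chkList_get _ _ _ st71 37211 st71_ok.1 k (by omega) (by rw [st71_ok.2]; omega)
  by_cases c72 : k < 37723
  · exact chkList_get _ _ _ st72 37467 st72_ok.1 k (by omega) (by rw [st72_ok.2]; omega)
  by_cases c73 : k < 37979
  · exact chkList_get _ _ _ st73 37723 st73_ok.1 k (by omega) (by rw [st73_ok.2]; omega)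
  by_cases c74 : k < 38235
  · exact chkList_get _ _ _ st74 37979 st74_ok.1 k (by omega) (by rw [st74_ok.2]; omega)
  by_cases c75 : k < 38491
  · exact chkList_get _ _ _ st75 38235 st75_ok.1 k (by omega) (by rw [st75_ok.2]; omega)
  by_cases c76 : k < 38747
  · exact chkList_get _ _ _ st76 38491 st76_ok.1 k (by omega) (by rw [st76_ok.2]; omega)
  by_cases c77 : k < 39003
  · exact chkList_get _ _ _ st77 38747 st77_ok.1 k (by omega) (by rw [st77_ok.2]; omega)
  by_cases c78 : k < 39259
  · exact chkList_get _ _ _ st78 39003 st78_ok.1 k (by omega) (by rw [st78_ok.2]; omega)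
  by_cases c79 : k < 39515
  · exact chkList_get _ _ _ st79 39259 st79_ok.1 k (by omega) (by rw [st79_ok.2]; omega)
  by_cases c80 : k < 39771
  · exact chkList_get _ _ _ st80 39515 st80_ok.1 k (by omega) (by rw [st80_ok.2]; omega)
  by_cases c81 : k < 40027
  · exact chkList_get _ _ _ st81 39771 st81_ok.1 k (by omega) (by rw [st81_ok.2]; omega)
  by_cases c82 : k < 40283
  · exact chkList_get _ _ _ st82 40027 st82_ok.1 k (by omega) (by rw [st82_ok.2]; omega)
  by_cases c83 : k < 40539
  · exact chkList_get _ _ _ st83 40283 st83_ok.1 k (by omega) (by rw [st83_ok.2]; omega)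
  by_cases c84 : k < 40795
  · exact chkList_get _ _ _ st84 40539 st84_ok.1 k (by omega) (by rw [st84_ok.2]; omega)
  by_cases c85 : k < 41051
  · exact chkList_get _ _ _ st85 40795 st85_ok.1 k (by omega) (by rw [st85_ok.2]; omega)
  by_cases c86 : k < 41307
  · exact chkList_get _ _ _ st86 41051 st86_ok.1 k (by omega) (by rw [st86_ok.2]; omega)
  by_cases c87 : k < 41563
  · exact chkList_get _ _ _ st87 41307 st87_ok.1 k (by omega) (by rw [st87_ok.2]; omega)
  by_cases c88 : k < 41819
  · exact chkList_get _ _ _ st88 41563 st88_ok.1 k (by omega) (by rw [st88_ok.2]; omega)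
  by_cases c89 : k < 42075
  · exact chkList_get _ _ _ st89 41819 st89_ok.1 k (by omega) (by rw [st89_ok.2]; omega)
  by_cases c90 : k < 42331
  · exact chkList_get _ _ _ st90 42075 st90_ok.1 k (by omega) (by rw [st90_ok.2]; omega)
  by_cases c91 : k < 42587
  · exact chkList_get _ _ _ st91 42331 st91_ok.1 k (by omega) (by rw [st91_ok.2]; omega)
  by_cases c92 : k < 42843
  · exact chkList_get _ _ _ st92 42587 st92_ok.1 k (by omega) (by rw [st92_ok.2]; omega)
  by_cases c93 : k < 43099
  · exact chkList_get _ _ _ st93 42843 st93_ok.1 k (by omega) (by rw [st93_ok.2]; omega)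
  by_cases c94 : k < 43355
  · exact chkList_get _ _ _ st94 43099 st94_ok.1 k (by omega) (by rw [st94_ok.2]; omega)
  by_cases c95 : k < 43611
  · exact chkList_get _ _ _ st95 43355 st95_ok.1 k (by omega) (by rw [st95_ok.2]; omega)
  by_cases c96 : k < 43867
  · exact chkList_get _ _ _ st96 43611 st96_ok.1 k (by omega) (by rw [st96_ok.2]; omega)
  by_cases c97 : k < 44123
  · exact chkList_get _ _ _ st97 43867 st97_ok.1 k (by omega) (by rw [st97_ok.2]; omega)
  by_cases c98 : k < 44379
  · exact chkList_get _ _ _ st98 44123 st98_ok.1 k (by omega) (by rw [st98_ok.2]; omega)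
  by_cases c99 : k < 44635
  · exact chkList_get _ _ _ st99 44379 st99_ok.1 k (by omega) (by rw [st99_ok.2]; omega)
  by_cases c100 : k < 44891
  · exact chkList_get _ _ _ st100 44635 st100_ok.1 k (by omega) (by rw [st100_ok.2]; omega)
  by_cases c101 : k < 45147
  · exact chkList_get _ _ _ st101 44891 st101_ok.1 k (by omega) (by rw [st101_ok.2]; omega)
  by_cases c102 : k < 45403
  · exact chkList_get _ _ _ st102 45147 st102_ok.1 k (by omega) (by rw [st102_ok.2]; omega)
  by_cases c103 : k < 45659
  · exact chkList_get _ _ _ st103 45403 st103_ok.1 k (by omega) (by rw [st103_ok.2]; omega)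
  by_cases c104 : k < 45915
  · exact chkList_get _ _ _ st104 45659 st104_ok.1 k (by omega) (by rw [st104_ok.2]; omega)
  by_cases c105 : k < 46171
  · exact chkList_get _ _ _ st105 45915 st105_ok.1 k (by omega) (by rw [st105_ok.2]; omega)
  by_cases c106 : k < 46427
  · exact chkList_get _ _ _ st106 46171 st106_ok.1 k (by omega) (by rw [st106_ok.2]; omega)
  by_cases c107 : k < 46683
  · exact chkList_get _ _ _ st107 46427 st107_ok.1 k (by omega) (by rw [st107_ok.2]; omega)
  by_cases c108 : k < 46939
  · exact chkList_get _ _ _ st108 46683 st108_ok.1 k (by omega) (by rw [st108_ok.2]; omega)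
  by_cases c109 : k < 47195
  · exact chkList_get _ _ _ st109 46939 st109_ok.1 k (by omega) (by rw [st109_ok.2]; omega)
  by_cases c110 : k < 47451
  · exact chkList_get _ _ _ st110 47195 st110_ok.1 k (by omega) (by rw [st110_ok.2]; omega)
  by_cases c111 : k < 47707
  · exact chkList_get _ _ _ st111 47451 st111_ok.1 k (by omega) (by rw [st111_ok.2]; omega)
  by_cases c112 : k < 47963
  · exact chkList_get _ _ _ st112 47707 st112_ok.1 k (by omega) (by rw [st112_ok.2]; omega)
  by_cases c113 : k < 48219
  · exact chkList_get _ _ _ st113 47963 st113_ok.1 k (by omega) (by rw [st113_ok.2]; omega)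
  by_cases c114 : k < 48475
  · exact chkList_get _ _ _ st114 48219 st114_ok.1 k (by omega) (by rw [st114_ok.2]; omega)
  by_cases c115 : k < 48731
  · exact chkList_get _ _ _ st115 48475 st115_ok.1 k (by omega) (by rw [st115_ok.2]; omega)
  by_cases c116 : k < 48987
  · exact chkList_get _ _ _ st116 48731 st116_ok.1 k (by omega) (by rw [st116_ok.2]; omega)
  by_cases c117 : k < 49243
  · exact chkList_get _ _ _ st117 48987 st117_ok.1 k (by omega) (by rw [st117_ok.2]; omega)
  by_cases c118 : k < 49499
  · exact chkList_get _ _ _ st118 49243 st118_ok.1 k (by omega) (by rw [st118_ok.2]; omega)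
  by_cases c119 : k < 49755
  · exact chkList_get _ _ _ st119 49499 st119_ok.1 k (by omega) (by rw [st119_ok.2]; omega)
  by_cases c120 : k < 50011
  · exact chkList_get _ _ _ st120 49755 st120_ok.1 k (by omega) (by rw [st120_ok.2]; omega)
  by_cases c121 : k < 50267
  · exact chkList_get _ _ _ st121 50011 st121_ok.1 k (by omega) (by rw [st121_ok.2]; omega)
  by_cases c122 : k < 50523
  · exact chkList_get _ _ _ st122 50267 st122_ok.1 k (by omega) (by rw [st122_ok.2]; omega)
  by_cases c123 : k < 50779
  · exact chkList_get _ _ _ st123 50523 st123_ok.1 k (by omega) (by rw [st123_ok.2]; omega)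
  by_cases c124 : k < 51035
  · exact chkList_get _ _ _ st124 50779 st124_ok.1 k (by omega) (by rw [st124_ok.2]; omega)
  by_cases c125 : k < 51291
  · exact chkList_get _ _ _ st125 51035 st125_ok.1 k (by omega) (by rw [st125_ok.2]; omega)
  by_cases c126 : k < 51547
  · exact chkList_get _ _ _ st126 51291 st126_ok.1 k (by omega) (by rw [st126_ok.2]; omega)
  by_cases c127 : k < 51803
  · exact chkList_get _ _ _ st127 51547 st127_ok.1 k (by omega) (by rw [st127_ok.2]; omega)
  by_cases c128 : k < 52059
  · exact chkList_get _ _ _ st128 51803 st128_ok.1 k (by omega) (by rw [st128_ok.2]; omega)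
  by_cases c129 : k < 52315
  · exact chkList_get _ _ _ st129 52059 st129_ok.1 k (by omega) (by rw [st129_ok.2]; omega)
  by_cases c130 : k < 52571
  · exact chkList_get _ _ _ st130 52315 st130_ok.1 k (by omega) (by rw [st130_ok.2]; omega)
  by_cases c131 : k < 52827
  · exact chkList_get _ _ _ st131 52571 st131_ok.1 k (by omega) (by rw [st131_ok.2]; omega)
  by_cases c132 : k < 53083
  · exact chkList_get _ _ _ st132 52827 st132_ok.1 k (by omega) (by rw [st132_ok.2]; omega)
  by_cases c133 : k < 53339
  · exact chkList_get _ _ _ st133 53083 st133_ok.1 k (by omega) (by rw [st133_ok.2]; omega)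
  by_cases c134 : k < 53595
  · exact chkList_get _ _ _ st134 53339 st134_ok.1 k (by omega) (by rw [st134_ok.2]; omega)
  by_cases c135 : k < 53851
  · exact chkList_get _ _ _ st135 53595 st135_ok.1 k (by omega) (by rw [st135_ok.2]; omega)
  by_cases c136 : k < 54107
  · exact chkList_get _ _ _ st136 53851 st136_ok.1 k (by omega) (by rw [st136_ok.2]; omega)
  by_cases c137 : k < 54363
  · exact chkList_get _ _ _ st137 54107 st137_ok.1 k (by omega) (by rw [st137_ok.2]; omega)
  by_cases c138 : k < 54619
  · exact chkList_get _ _ _ st138 54363 st138_ok.1 k (by omega) (by rw [st138_ok.2]; omega)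
  by_cases c139 : k < 54875
  · exact chkList_get _ _ _ st139 54619 st139_ok.1 k (by omega) (by rw [st139_ok.2]; omega)
  by_cases c140 : k < 55131
  · exact chkList_get _ _ _ st140 54875 st140_ok.1 k (by omega) (by rw [st140_ok.2]; omega)
  by_cases c141 : k < 55387
  · exact chkList_get _ _ _ st141 55131 st141_ok.1 k (by omega) (by rw [st141_ok.2]; omega)
  by_cases c142 : k < 55643
  · exact chkList_get _ _ _ st142 55387 st142_ok.1 k (by omega) (by rw [st142_ok.2]; omega)
  by_cases c143 : k < 55899
  · exact chkList_get _ _ _ st143 55643 st143_ok.1 k (by omega) (by rw [st143_ok.2]; omega)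
  by_cases c144 : k < 56155
  · exact chkList_get _ _ _ st144 55899 st144_ok.1 k (by omega) (by rw [st144_ok.2]; omega)
  by_cases c145 : k < 56411
  · exact chkList_get _ _ _ st145 56155 st145_ok.1 k (by omega) (by rw [st145_ok.2]; omega)
  by_cases c146 : k < 56667
  · exact chkList_get _ _ _ st146 56411 st146_ok.1 k (by omega) (by rw [st146_ok.2]; omega)
  by_cases c147 : k < 56923
  · exact chkList_get _ _ _ st147 56667 st147_ok.1 k (by omega) (by rw [st147_ok.2]; omega)
  by_cases c148 : k < 57179
  · exact chkList_get _ _ _ st148 56923 st148_ok.1 k (by omega) (by rw [st148_ok.2]; omega)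
  by_cases c149 : k < 57435
  · exact chkList_get _ _ _ st149 57179 st149_ok.1 k (by omega) (by rw [st149_ok.2]; omega)
  by_cases c150 : k < 57691
  · exact chkList_get _ _ _ st150 57435 st150_ok.1 k (by omega) (by rw [st150_ok.2]; omega)
  by_cases c151 : k < 57947
  · exact chkList_get _ _ _ st151 57691 st151_ok.1 k (by omega) (by rw [st151_ok.2]; omega)
  by_cases c152 : k < 58203
  · exact chkList_get _ _ _ st152 57947 st152_ok.1 k (by omega) (by rw [st152_ok.2]; omega)
  by_cases c153 : k < 58459
  · exact chkList_get _ _ _ st153 58203 st153_ok.1 k (by omega) (by rw [st153_ok.2]; omega)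
  by_cases c154 : k < 58715
  · exact chkList_get _ _ _ st154 58459 st154_ok.1 k (by omega) (by rw [st154_ok.2]; omega)
  by_cases c155 : k < 58971
  · exact chkList_get _ _ _ st155 58715 st155_ok.1 k (by omega) (by rw [st155_ok.2]; omega)
  by_cases c156 : k < 59227
  · exact chkList_get _ _ _ st156 58971 st156_ok.1 k (by omega) (by rw [st156_ok.2]; omega)
  by_cases c157 : k < 59483
  · exact chkList_get _ _ _ st157 59227 st157_ok.1 k (by omega) (by rw [st157_ok.2]; omega)
  by_cases c158 : k < 59739
  · exact chkList_get _ _ _ st158 59483 st158_ok.1 k (by omega) (by rw [st158_ok.2]; omega)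
  by_cases c159 : k < 59995
  · exact chkList_get _ _ _ st159 59739 st159_ok.1 k (by omega) (by rw [st159_ok.2]; omega)
  by_cases c160 : k < 60251
  · exact chkList_get _ _ _ st160 59995 st160_ok.1 k (by omega) (by rw [st160_ok.2]; omega)
  by_cases c161 : k < 60507
  · exact chkList_get _ _ _ st161 60251 st161_ok.1 k (by omega) (by rw [st161_ok.2]; omega)
  by_cases c162 : k < 60763
  · exact chkList_get _ _ _ st162 60507 st162_ok.1 k (by omega) (by rw [st162_ok.2]; omega)
  by_cases c163 : k < 61019
  · exact chkList_get _ _ _ st163 60763 st163_ok.1 k (by omega) (by rw [st163_ok.2]; omega)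
  by_cases c164 : k < 61275
  · exact chkList_get _ _ _ st164 61019 st164_ok.1 k (by omega) (by rw [st164_ok.2]; omega)
  by_cases c165 : k < 61531
  · exact chkList_get _ _ _ st165 61275 st165_ok.1 k (by omega) (by rw [st165_ok.2]; omega)
  by_cases c166 : k < 61787
  · exact chkList_get _ _ _ st166 61531 st166_ok.1 k (by omega) (by rw [st166_ok.2]; omega)
  by_cases c167 : k < 62043
  · exact chkList_get _ _ _ st167 61787 st167_ok.1 k (by omega) (by rw [st167_ok.2]; omega)
  by_cases c168 : k < 62299
  · exact chkList_get _ _ _ st168 62043 st168_ok.1 k (by omega) (by rw [st168_ok.2]; omega)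
  by_cases c169 : k < 62555
  · exact chkList_get _ _ _ st169 62299 st169_ok.1 k (by omega) (by rw [st169_ok.2]; omega)
  by_cases c170 : k < 62811
  · exact chkList_get _ _ _ st170 62555 st170_ok.1 k (by omega) (by rw [st170_ok.2]; omega)
  by_cases c171 : k < 63067
  · exact chkList_get _ _ _ st171 62811 st171_ok.1 k (by omega) (by rw [st171_ok.2]; omega)
  by_cases c172 : k < 63323
  · exact chkList_get _ _ _ st172 63067 st172_ok.1 k (by omega) (by rw [st172_ok.2]; omega)
  by_cases c173 : k < 63579
  · exact chkList_get _ _ _ st173 63323 st173_ok.1 k (by omega) (by rw [st173_ok.2]; omega)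
  by_cases c174 : k < 63835
  · exact chkList_get _ _ _ st174 63579 st174_ok.1 k (by omega) (by rw [st174_ok.2]; omega)
  by_cases c175 : k < 64091
  · exact chkList_get _ _ _ st175 63835 st175_ok.1 k (by omega) (by rw [st175_ok.2]; omega)
  by_cases c176 : k < 64347
  · exact chkList_get _ _ _ st176 64091 st176_ok.1 k (by omega) (by rw [st176_ok.2]; omega)
  by_cases c177 : k < 64603
  · exact chkList_get _ _ _ st177 64347 st177_ok.1 k (by omega) (by rw [st177_ok.2]; omega)
  by_cases c178 : k < 64859
  · exact chkList_get _ _ _ st178 64603 st178_ok.1 k (by omega) (by rw [st178_ok.2]; omega)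
  by_cases c179 : k < 65115
  · exact chkList_get _ _ _ st179 64859 st179_ok.1 k (by omega) (by rw [st179_ok.2]; omega)
  by_cases c180 : k < 65371
  · exact chkList_get _ _ _ st180 65115 st180_ok.1 k (by omega) (by rw [st180_ok.2]; omega)
  by_cases c181 : k < 65627
  · exact chkList_get _ _ _ st181 65371 st181_ok.1 k (by omega) (by rw [st181_ok.2]; omega)
  by_cases c182 : k < 65883
  · exact chkList_get _ _ _ st182 65627 st182_ok.1 k (by omega) (by rw [st182_ok.2]; omega)
  by_cases c183 : k < 66139
  · exact chkList_get _ _ _ st183 65883 st183_ok.1 k (by omega) (by rw [st183_ok.2]; omega)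
  by_cases c184 : k < 66395
  · exact chkList_get _ _ _ st184 66139 st184_ok.1 k (by omega) (by rw [st184_ok.2]; omega)
  by_cases c185 : k < 66651
  · exact chkList_get _ _ _ st185 66395 st185_ok.1 k (by omega) (by rw [st185_ok.2]; omega)
  by_cases c186 : k < 66907
  · exact chkList_get _ _ _ st186 66651 st186_ok.1 k (by omega) (by rw [st186_ok.2]; omega)
  by_cases c187 : k < 67163
  · exact chkList_get _ _ _ st187 66907 st187_ok.1 k (by omega) (by rw [st187_ok.2]; omega)
  by_cases c188 : k < 67419
  · exact chkList_get _ _ _ st188 67163 st188_ok.1 k (by omega) (by rw [st188_ok.2]; omega)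
  by_cases c189 : k < 67675
  · exact chkList_get _ _ _ st189 67419 st189_ok.1 k (by omega) (by rw [st189_ok.2]; omega)
  by_cases c190 : k < 67931
  · exact chkList_get _ _ _ st190 67675 st190_ok.1 k (by omega) (by rw [st190_ok.2]; omega)
  by_cases c191 : k < 68187
  · exact chkList_get _ _ _ st191 67931 st191_ok.1 k (by omega) (by rw [st191_ok.2]; omega)
  by_cases c192 : k < 68443
  · exact chkList_get _ _ _ st192 68187 st192_ok.1 k (by omega) (by rw [st192_ok.2]; omega)
  by_cases c193 : k < 68699
  · exact chkList_get _ _ _ st193 68443 st193_ok.1 k (by omega) (by rw [st193_ok.2]; omega)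
  by_cases c194 : k < 68955
  · exact chkList_get _ _ _ st194 68699 st194_ok.1 k (by omega) (by rw [st194_ok.2]; omega)
  by_cases c195 : k < 69211
  · exact chkList_get _ _ _ st195 68955 st195_ok.1 k (by omega) (by rw [st195_ok.2]; omega)
  by_cases c196 : k < 69467
  · exact chkList_get _ _ _ st196 69211 st196_ok.1 k (by omega) (by rw [st196_ok.2]; omega)
  by_cases c197 : k < 69723
  · exact chkList_get _ _ _ st197 69467 st197_ok.1 k (by omega) (by rw [st197_ok.2]; omega)
  by_cases c198 : k < 69979
  · exact chkList_get _ _ _ st198 69723 st198_ok.1 k (by omega) (by rw [st198_ok.2]; omega)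
  by_cases c199 : k < 70235
  · exact chkList_get _ _ _ st199 69979 st199_ok.1 k (by omega) (by rw [st199_ok.2]; omega)
  by_cases c200 : k < 70491
  · exact chkList_get _ _ _ st200 70235 st200_ok.1 k (by omega) (by rw [st200_ok.2]; omega)
  by_cases c201 : k < 70747
  · exact chkList_get _ _ _ st201 70491 st201_ok.1 k (by omega) (by rw [st201_ok.2]; omega)
  by_cases c202 : k < 71003
  · exact chkList_get _ _ _ st202 70747 st202_ok.1 k (by omega) (by rw [st202_ok.2]; omega)
  by_cases c203 : k < 71259
  · exact chkList_get _ _ _ st203 71003 st203_ok.1 k (by omega) (by rw [st203_ok.2]; omega)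
  by_cases c204 : k < 71515
  · exact chkList_get _ _ _ st204 71259 st204_ok.1 k (by omega) (by rw [st204_ok.2]; omega)
  by_cases c205 : k < 71771
  · exact chkList_get _ _ _ st205 71515 st205_ok.1 k (by omega) (by rw [st205_ok.2]; omega)
  by_cases c206 : k < 72027
  · exact chkList_get _ _ _ st206 71771 st206_ok.1 k (by omega) (by rw [st206_ok.2]; omega)
  by_cases c207 : k < 72283
  · exact chkList_get _ _ _ st207 72027 st207_ok.1 k (by omega) (by rw [st207_ok.2]; omega)
  by_cases c208 : k < 72539
  · exact chkList_get _ _ _ st208 72283 st208_ok.1 k (by omega) (by rw [st208_ok.2]; omega)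
  by_cases c209 : k < 72795
  · exact chkList_get _ _ _ st209 72539 st209_ok.1 k (by omega) (by rw [st209_ok.2]; omega)
  by_cases c210 : k < 73051
  · exact chkList_get _ _ _ st210 72795 st210_ok.1 k (by omega) (by rw [st210_ok.2]; omega)
  by_cases c211 : k < 73307
  · exact chkList_get _ _ _ st211 73051 st211_ok.1 k (by omega) (by rw [st211_ok.2]; omega)
  by_cases c212 : k < 73563
  · exact chkList_get _ _ _ st212 73307 st212_ok.1 k (by omega) (by rw [st212_ok.2]; omega)
  by_cases c213 : k < 73819
  · exact chkList_get _ _ _ st213 73563 st213_ok.1 k (by omega) (by rw [st213_ok.2]; omega)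
  by_cases c214 : k < 74075
  · exact chkList_get _ _ _ st214 73819 st214_ok.1 k (by omega) (by rw [st214_ok.2]; omega)
  by_cases c215 : k < 74331
  · exact chkList_get _ _ _ st215 74075 st215_ok.1 k (by omega) (by rw [st215_ok.2]; omega)
  by_cases c216 : k < 74587
  · exact chkList_get _ _ _ st216 74331 st216_ok.1 k (by omega) (by rw [st216_ok.2]; omega)
  by_cases c217 : k < 74843
  · exact chkList_get _ _ _ st217 74587 st217_ok.1 k (by omega) (by rw [st217_ok.2]; omega)
  by_cases c218 : k < 75099
  · exact chkList_get _ _ _ st218 74843 st218_ok.1 k (by omega) (by rw [st218_ok.2]; omega)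
  by_cases c219 : k < 75355
  · exact chkList_get _ _ _ st219 75099 st219_ok.1 k (by omega) (by rw [st219_ok.2]; omega)
  by_cases c220 : k < 75611
  · exact chkList_get _ _ _ st220 75355 st220_ok.1 k (by omega) (by rw [st220_ok.2]; omega)
  by_cases c221 : k < 75867
  · exact chkList_get _ _ _ st221 75611 st221_ok.1 k (by omega) (by rw [st221_ok.2]; omega)
  by_cases c222 : k < 76123
  · exact chkList_get _ _ _ st222 75867 st222_ok.1 k (by omega) (by rw [st222_ok.2]; omega)
  by_cases c223 : k < 76379
  · exact chkList_get _ _ _ st223 76123 st223_ok.1 k (by omega) (by rw [st223_ok.2]; omega)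
  by_cases c224 : k < 76635
  · exact chkList_get _ _ _ st224 76379 st224_ok.1 k (by omega) (by rw [st224_ok.2]; omega)
  by_cases c225 : k < 76891
  · exact chkList_get _ _ _ st225 76635 st225_ok.1 k (by omega) (by rw [st225_ok.2]; omega)
  by_cases c226 : k < 77147
  · exact chkList_get _ _ _ st226 76891 st226_ok.1 k (by omega) (by rw [st226_ok.2]; omega)
  by_cases c227 : k < 77403
  · exact chkList_get _ _ _ st227 77147 st227_ok.1 k (by omega) (by rw [st227_ok.2]; omega)
  by_cases c228 : k < 77659
  · exact chkList_get _ _ _ st228 77403 st228_ok.1 k (by omega) (by rw [st228_ok.2]; omega)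
  by_cases c229 : k < 77915
  · exact chkList_get _ _ _ st229 77659 st229_ok.1 k (by omega) (by rw [st229_ok.2]; omega)
  by_cases c230 : k < 78171
  · exact chkList_get _ _ _ st230 77915 st230_ok.1 k (by omega) (by rw [st230_ok.2]; omega)
  by_cases c231 : k < 78427
  · exact chkList_get _ _ _ st231 78171 st231_ok.1 k (by omega) (by rw [st231_ok.2]; omega)
  by_cases c232 : k < 78683
  · exact chkList_get _ _ _ st232 78427 st232_ok.1 k (by omega) (by rw [st232_ok.2]; omega)
  by_cases c233 : k < 78939
  · exact chkList_get _ _ _ st233 78683 st233_ok.1 k (by omega) (by rw [st233_ok.2]; omega)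
  by_cases c234 : k < 79195
  · exact chkList_get _ _ _ st234 78939 st234_ok.1 k (by omega) (by rw [st234_ok.2]; omega)
  by_cases c235 : k < 79451
  · exact chkList_get _ _ _ st235 79195 st235_ok.1 k (by omega) (by rw [st235_ok.2]; omega)
  by_cases c236 : k < 79707
  · exact chkList_get _ _ _ st236 79451 st236_ok.1 k (by omega) (by rw [st236_ok.2]; omega)
  by_cases c237 : k < 79963
  · exact chkList_get _ _ _ st237 79707 st237_ok.1 k (by omega) (by rw [st237_ok.2]; omega)
  by_cases c238 : k < 80219
  · exact chkList_get _ _ _ st238 79963 st238_ok.1 k (by omega) (by rw [st238_ok.2]; omega)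
  by_cases c239 : k < 80475
  · exact chkList_get _ _ _ st239 80219 st239_ok.1 k (by omega) (by rw [st239_ok.2]; omega)
  by_cases c240 : k < 80731
  · exact chkList_get _ _ _ st240 80475 st240_ok.1 k (by omega) (by rw [st240_ok.2]; omega)
  by_cases c241 : k < 80987
  · exact chkList_get _ _ _ st241 80731 st241_ok.1 k (by omega) (by rw [st241_ok.2]; omega)
  by_cases c242 : k < 81243
  · exact chkList_get _ _ _ st242 80987 st242_ok.1 k (by omega) (by rw [st242_ok.2]; omega)
  by_cases c243 : k < 81499
  · exact chkList_get _ _ _ st243 81243 st243_ok.1 k (by omega) (by rw [st243_ok.2]; omega)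
  by_cases c244 : k < 81755
  · exact chkList_get _ _ _ st244 81499 st244_ok.1 k (by omega) (by rw [st244_ok.2]; omega)
  by_cases c245 : k < 82011
  · exact chkList_get _ _ _ st245 81755 st245_ok.1 k (by omega) (by rw [st245_ok.2]; omega)
  by_cases c246 : k < 82267
  · exact chkList_get _ _ _ st246 82011 st246_ok.1 k (by omega) (by rw [st246_ok.2]; omega)
  by_cases c247 : k < 82523
  · exact chkList_get _ _ _ st247 82267 st247_ok.1 k (by omega) (by rw [st247_ok.2]; omega)
  by_cases c248 : k < 82779
  · exact chkList_get _ _ _ st248 82523 st248_ok.1 k (by omega) (by rw [st248_ok.2]; omega)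
  by_cases c249 : k < 83035
  · exact chkList_get _ _ _ st249 82779 st249_ok.1 k (by omega) (by rw [st249_ok.2]; omega)
  by_cases c250 : k < 83291
  · exact chkList_get _ _ _ st250 83035 st250_ok.1 k (by omega) (by rw [st250_ok.2]; omega)
  by_cases c251 : k < 83547
  · exact chkList_get _ _ _ st251 83291 st251_ok.1 k (by omega) (by rw [st251_ok.2]; omega)
  by_cases c252 : k < 83803
  · exact chkList_get _ _ _ st252 83547 st252_ok.1 k (by omega) (by rw [st252_ok.2]; omega)
  by_cases c253 : k < 84059
  · exact chkList_get _ _ _ st253 83803 st253_ok.1 k (by omega) (by rw [st253_ok.2]; omega)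
  by_cases c254 : k < 84315
  · exact chkList_get _ _ _ st254 84059 st254_ok.1 k (by omega) (by rw [st254_ok.2]; omega)
  by_cases c255 : k < 84571
  · exact chkList_get _ _ _ st255 84315 st255_ok.1 k (by omega) (by rw [st255_ok.2]; omega)
  by_cases c256 : k < 84827
  · exact chkList_get _ _ _ st256 84571 st256_ok.1 k (by omega) (by rw [st256_ok.2]; omega)
  by_cases c257 : k < 85083
  · exact chkList_get _ _ _ st257 84827 st257_ok.1 k (by omega) (by rw [st257_ok.2]; omega)
  by_cases c258 : k < 85339
  · exact chkList_get _ _ _ st258 85083 st258_ok.1 k (by omega) (by rw [st258_ok.2]; omega)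
  by_cases c259 : k < 85595
  · exact chkList_get _ _ _ st259 85339 st259_ok.1 k (by omega) (by rw [st259_ok.2]; omega)
  by_cases c260 : k < 85851
  · exact chkList_get _ _ _ st260 85595 st260_ok.1 k (by omega) (by rw [st260_ok.2]; omega)
  by_cases c261 : k < 86107
  · exact chkList_get _ _ _ st261 85851 st261_ok.1 k (by omega) (by rw [st261_ok.2]; omega)
  by_cases c262 : k < 86363
  · exact chkList_get _ _ _ st262 86107 st262_ok.1 k (by omega) (by rw [st262_ok.2]; omega)
  by_cases c263 : k < 86619
  · exact chkList_get _ _ _ st263 86363 st263_ok.1 k (by omega) (by rw [st263_ok.2]; omega)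
  by_cases c264 : k < 86875
  · exact chkList_get _ _ _ st264 86619 st264_ok.1 k (by omega) (by rw [st264_ok.2]; omega)
  by_cases c265 : k < 87131
  · exact chkList_get _ _ _ st265 86875 st265_ok.1 k (by omega) (by rw [st265_ok.2]; omega)
  by_cases c266 : k < 87387
  · exact chkList_get _ _ _ st266 87131 st266_ok.1 k (by omega) (by rw [st266_ok.2]; omega)
  by_cases c267 : k < 87631
  · exact chkList_get _ _ _ st267 87387 st267_ok.1 k (by omega) (by rw [st267_ok.2]; omega)
  omega

end H29.CosetCert.Fi23Lvl0
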