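import Cfsg.Agent.H29.CosetCert.Fi23Order.L1C
import Cfsg.Agent.H29.CosetCert.Fi23Order.L1S0
import Cfsg.Agent.H29.CosetCert.Fi23Order.L1S1
import Cfsg.Agent.H29.CosetCert.Fi23Order.L1S2
import Cfsg.Agent.H29.CosetCert.Fi23Order.L1S3
import Cfsg.Agent.H29.CosetCert.Fi23Order.L1S4
import Cfsg.Agent.H29.CosetCert.Fi23Order.L1S5
import Cfsg.Agent.H29.CosetCert.Fi23Order.L1S6

/-! Certificate data for the order of Fi23, produced outside Lean and checked here. -/

set_option autoImplicit false
set_option maxRecDepth 16000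
set_option Elab.async false

namespace H29.CosetCert.Fi23Lvl1

open H29.CosetCert

theorem deds : ∀ k, lvl.nd ≤ k → k < lvl.N → ∃ s, chkDed lvl.F lvl.R lvl.S k s = true := by
  intro k h1 h2
  change 10052 ≤ k at h1
  change k < 37778 at h2
  by_cases c0 : k < 10308
  · exact chkList_get _ _ _ st0 10052 st0_ok.1 k (by omega) (by rw [st0_ok.2]; omega)
  by_cases c1 : k < 10564
  · exact chkList_get _ _ _ st1 10308 st1_ok.1 k (by omega) (by rw [st1_ok.2]; omega)
  by_cases c2 : k < 10820
  · exact chkList_get _ _ _ st2 10564 st2_ok.1 k (by omega) (by rw [st2_ok.2]; omega)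
  by_cases c3 : k < 11076
  · exact chkList_get _ _ _ st3 10820 st3_ok.1 k (by omega) (by rw [st3_ok.2]; omega)
  by_cases c4 : k < 11332
  · exact chkList_get _ _ _ st4 11076 st4_ok.1 k (by omega) (by rw [st4_ok.2]; omega)
  by_cases c5 : k < 11588
  · exact chkList_get _ _ _ st5 11332 st5_ok.1 k (by omega) (by rw [st5_ok.2]; omega)
  by_cases c6 : k < 11844
  · exact chkList_get _ _ _ st6 11588 st6_ok.1 k (by omega) (by rw [st6_ok.2]; omega)
  by_cases c7 : k < 12100
  · exact chkList_get _ _ _ st7 11844 st7_ok.1 k (by omega) (by rw [st7_ok.2]; omega)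
  by_cases c8 : k < 12356
  · exact chkList_get _ _ _ st8 12100 st8_ok.1 k (by omega) (by rw [st8_ok.2]; omega)
  by_cases c9 : k < 12612
  · exact chkList_get _ _ _ st9 12356 st9_ok.1 k (by omega) (by rw [st9_ok.2]; omega)
  by_cases c10 : k < 12868
  · exact chkList_get _ _ _ st10 12612 st10_ok.1 k (by omega) (by rw [st10_ok.2]; omega)
  by_cases c11 : k < 13124
  · exact chkList_get _ _ _ st11 12868 st11_ok.1 k (by omega) (by rw [st11_ok.2]; omega)
  by_cases c12 : k < 13380
  · exact chkList_get _ _ _ st12 13124 st12_ok.1 k (by omega) (by rw [st12_ok.2]; omega)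
  by_cases c13 : k < 13636
  · exact chkList_get _ _ _ st13 13380 st13_ok.1 k (by omega) (by rw [st13_ok.2]; omega)
  by_cases c14 : k < 13892
  · exact chkList_get _ _ _ st14 13636 st14_ok.1 k (by omega) (by rw [st14_ok.2]; omega)
  by_cases c15 : k < 14148
  · exact chkList_get _ _ _ st15 13892 st15_ok.1 k (by omega) (by rw [st15_ok.2]; omega)
  by_cases c16 : k < 14404
  · exact chkList_get _ _ _ st16 14148 st16_ok.1 k (by omega) (by rw [st16_ok.2]; omega)
  by_cases c17 : k < 14660
  · exact chkList_get _ _ _ st17 14404 st17_ok.1 k (by omega) (by rw [st17_ok.2]; omega)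
  by_cases c18 : k < 14916
  · exact chkList_get _ _ _ st18 14660 st18_ok.1 k (by omega) (by rw [st18_ok.2]; omega)
  by_cases c19 : k < 15172
  · exact chkList_get _ _ _ st19 14916 st19_ok.1 k (by omega) (by rw [st19_ok.2]; omega)
  by_cases c20 : k < 15428
  · exact chkList_get _ _ _ st20 15172 st20_ok.1 k (by omega) (by rw [st20_ok.2]; omega)
  by_cases c21 : k < 15684
  · exact chkList_get _ _ _ st21 15428 st21_ok.1 k (by omega) (by rw [st21_ok.2]; omega)
  by_cases c22 : k < 15940
  · exact chkList_get _ _ _ st22 15684 st22_ok.1 k (by omega) (by rw [st22_ok.2]; omega)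
  by_cases c23 : k < 16196
  · exact chkList_get _ _ _ st23 15940 st23_ok.1 k (by omega) (by rw [st23_ok.2]; omega)
  by_cases c24 : k < 16452
  · exact chkList_get _ _ _ st24 16196 st24_ok.1 k (by omega) (by rw [st24_ok.2]; omega)
  by_cases c25 : k < 16708
  · exact chkList_get _ _ _ st25 16452 st25_ok.1 k (by omega) (by rw [st25_ok.2]; omega)
  by_cases c26 : k < 16964
  · exact chkList_get _ _ _ st26 16708 st26_ok.1 k (by omega) (by rw [st26_ok.2]; omega)
  by_cases c27 : k < 17220
  · exact chkList_get _ _ _ st27 16964 st27_ok.1 k (by omega) (by rw [st27_ok.2]; omega)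
  by_cases c28 : k < 17476
  · exact chkList_get _ _ _ st28 17220 st28_ok.1 k (by omega) (by rw [st28_ok.2]; omega)
  by_cases c29 : k < 17732
  · exact chkList_get _ _ _ st29 17476 st29_ok.1 k (by omega) (by rw [st29_ok.2]; omega)
  by_cases c30 : k < 17988
  · exact chkList_get _ _ _ st30 17732 st30_ok.1 k (by omega) (by rw [st30_ok.2]; omega)
  by_cases c31 : k < 18244
  · exact chkList_get _ _ _ st31 17988 st31_ok.1 k (by omega) (by rw [st31_ok.2]; omega)
  by_cases c32 : k < 18500
  · exact chkList_get _ _ _ st32 18244 st32_ok.1 k (by omega) (by rw [st32_ok.2]; omega)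
  by_cases c33 : k < 18756
  · exact chkList_get _ _ _ st33 18500 st33_ok.1 k (by omega) (by rw [st33_ok.2]; omega)
  by_cases c34 : k < 19012
  · exact chkList_get _ _ _ st34 18756 st34_ok.1 k (by omega) (by rw [st34_ok.2]; omega)
  by_cases c35 : k < 19268
  · exact chkList_get _ _ _ st35 19012 st35_ok.1 k (by omega) (by rw [st35_ok.2]; omega)
  by_cases c36 : k < 19524
  · exact chkList_get _ _ _ st36 19268 st36_ok.1 k (by omega) (by rw [st36_ok.2]; omega)
  by_cases c37 : k < 19780
  · exact chkList_get _ _ _ st37 19524 st37_ok.1 k (by omega) (by rw [st37_ok.2]; omega)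
  by_cases c38 : k < 20036
  · exact chkList_get _ _ _ st38 19780 st38_ok.1 k (by omega) (by rw [st38_ok.2]; omega)
  by_cases c39 : k < 20292
  · exact chkList_get _ _ _ st39 20036 st39_ok.1 k (by omega) (by rw [st39_ok.2]; omega)
  by_cases c40 : k < 20548
  · exact chkList_get _ _ _ st40 20292 st40_ok.1 k (by omega) (by rw [st40_ok.2]; omega)
  by_cases c41 : k < 20804
  · exact chkList_get _ _ _ st41 20548 st41_ok.1 k (by omega) (by rw [st41_ok.2]; omega)
  by_cases c42 : k < 21060
  · exact chkList_get _ _ _ st42 20804 st42_ok.1 k (by omega) (by rw [st42_ok.2]; omega)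
  by_cases c43 : k < 21316
  · exact chkList_get _ _ _ st43 21060 st43_ok.1 k (by omega) (by rw [st43_ok.2]; omega)
  by_cases c44 : k < 21572
  · exact chkList_get _ _ _ st44 21316 st44_ok.1 k (by omega) (by rw [st44_ok.2]; omega)
  by_cases c45 : k < 21828
  · exact chkList_get _ _ _ st45 21572 st45_ok.1 k (by omega) (by rw [st45_ok.2]; omega)
  by_cases c46 : k < 22084
  · exact chkList_get _ _ _ st46 21828 st46_ok.1 k (by omega) (by rw [st46_ok.2]; omega)
  by_cases c47 : k < 22340
  · exact chkList_get _ _ _ st47 22084 st47_ok.1 k (by omega) (by rw [st47_ok.2]; omega)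
  by_cases c48 : k < 22596
  · exact chkList_get _ _ _ st48 22340 st48_ok.1 k (by omega) (by rw [st48_ok.2]; omega)
  by_cases c49 : k < 22852
  · exact chkList_get _ _ _ st49 22596 st49_ok.1 k (by omega) (by rw [st49_ok.2]; omega)
  by_cases c50 : k < 23108
  · exact chkList_get _ _ _ st50 22852 st50_ok.1 k (by omega) (by rw [st50_ok.2]; omega)
  by_cases c51 : k < 23364
  · exact chkList_get _ _ _ st51 23108 st51_ok.1 k (by omega) (by rw [st51_ok.2]; omega)
  by_cases c52 : k < 23620
  · exact chkList_get _ _ _ st52 23364 st52_ok.1 k (by omega) (by rw [st52_ok.2]; omega)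
  by_cases c53 : k < 23876
  · exact chkList_get _ _ _ st53 23620 st53_ok.1 k (by omega) (by rw [st53_ok.2]; omega)
  by_cases c54 : k < 24132
  · exact chkList_get _ _ _ st54 23876 st54_ok.1 k (by omega) (by rw [st54_ok.2]; omega)
  by_cases c55 : k < 24388
  · exact chkList_get _ _ _ st55 24132 st55_ok.1 k (by omega) (by rw [st55_ok.2]; omega)
  by_cases c56 : k < 24644
  · exact chkList_get _ _ _ st56 24388 st56_ok.1 k (by omega) (by rw [st56_ok.2]; omega)
  by_cases c57 : k < 24900
  · exact chkList_get _ _ _ st57 24644 st57_ok.1 k (by omega) (by rw [st57_ok.2]; omega)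
  by_cases c58 : k < 25156
  · exact chkList_get _ _ _ st58 24900 st58_ok.1 k (by omega) (by rw [st58_ok.2]; omega)
  by_cases c59 : k < 25412
  · exact chkList_get _ _ _ st59 25156 st59_ok.1 k (by omega) (by rw [st59_ok.2]; omega)
  by_cases c60 : k < 25668
  · exact chkList_get _ _ _ st60 25412 st60_ok.1 k (by omega) (by rw [st60_ok.2]; omega)
  by_cases c61 : k < 25924
  · exact chkList_get _ _ _ st61 25668 st61_ok.1 k (by omega) (by rw [st61_ok.2]; omega)
  by_cases c62 : k < 26180
  · exact chkList_get _ _ _ st62 25924 st62_ok.1 k (by omega) (by rw [st62_ok.2]; omega)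
  by_cases c63 : k < 26436
  · exact chkList_get _ _ _ st63 26180 st63_ok.1 k (by omega) (by rw [st63_ok.2]; omega)
  by_cases c64 : k < 26692
  · exact chkList_get _ _ _ st64 26436 st64_ok.1 k (by omega) (by rw [st64_ok.2]; omega)
  by_cases c65 : k < 26948
  · exact chkList_get _ _ _ st65 26692 st65_ok.1 k (by omega) (by rw [st65_ok.2]; omega)
  by_cases c66 : k < 27204
  · exact chkList_get _ _ _ st66 26948 st66_ok.1 k (by omega) (by rw [st66_ok.2]; omega)
  by_cases c67 : k < 27460
  · exact chkList_get _ _ _ st67 27204 st67_ok.1 k (by omega) (by rw [st67_ok.2]; omega)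
  by_cases c68 : k < 27716
  · exact chkList_get _ _ _ st68 27460 st68_ok.1 k (by omega) (by rw [st68_ok.2]; omega)
  by_cases c69 : k < 27972
  · exact chkList_get _ _ _ st69 27716 st69_ok.1 k (by omega) (by rw [st69_ok.2]; omega)
  by_cases c70 : k < 28228
  · exact chkList_get _ _ _ st70 27972 st70_ok.1 k (by omega) (by rw [st70_ok.2]; omega)
  by_cases c71 : k < 28484
  · exact chkList_get _ _ _ st71 28228 st71_ok.1 k (by omega) (by rw [st71_ok.2]; omega)
  by_cases c72 : k < 28740
  · exact chkList_get _ _ _ st72 28484 st72_ok.1 k (by omega) (by rw [st72_ok.2]; omega)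
  by_cases c73 : k < 28996
  · exact chkList_get _ _ _ st73 28740 st73_ok.1 k (by omega) (by rw [st73_ok.2]; omega)
  by_cases c74 : k < 29252
  · exact chkList_get _ _ _ st74 28996 st74_ok.1 k (by omega) (by rw [st74_ok.2]; omega)
  by_cases c75 : k < 29508
  · exact chkList_get _ _ _ st75 29252 st75_ok.1 k (by omega) (by rw [st75_ok.2]; omega)
  by_cases c76 : k < 29764
  · exact chkList_get _ _ _ st76 29508 st76_ok.1 k (by omega) (by rw [st76_ok.2]; omega)
  by_cases c77 : k < 30020
  · exact chkList_get _ _ _ st77 29764 st77_ok.1 k (by omega) (by rw [st77_ok.2]; omega)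
  by_cases c78 : k < 30276
  · exact chkList_get _ _ _ st78 30020 st78_ok.1 k (by omega) (by rw [st78_ok.2]; omega)
  by_cases c79 : k < 30532
  · exact chkList_get _ _ _ st79 30276 st79_ok.1 k (by omega) (by rw [st79_ok.2]; omega)
  by_cases c80 : k < 30788
  · exact chkList_get _ _ _ st80 30532 st80_ok.1 k (by omega) (by rw [st80_ok.2]; omega)
  by_cases c81 : k < 31044
  · exact chkList_get _ _ _ st81 30788 st81_ok.1 k (by omega) (by rw [st81_ok.2]; omega)
  by_cases c82 : k < 31300
  · exact chkList_get _ _ _ st82 31044 st82_ok.1 k (by omega) (by rw [st82_ok.2]; omega)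
  by_cases c83 : k < 31556
  · exact chkList_get _ _ _ st83 31300 st83_ok.1 k (by omega) (by rw [st83_ok.2]; omega)
  by_cases c84 : k < 31812
  · exact chkList_get _ _ _ st84 31556 st84_ok.1 k (by omega) (by rw [st84_ok.2]; omega)
  by_cases c85 : k < 32068
  · exact chkList_get _ _ _ st85 31812 st85_ok.1 k (by omega) (by rw [st85_ok.2]; omega)
  by_cases c86 : k < 32324
  · exact chkList_get _ _ _ st86 32068 st86_ok.1 k (by omega) (by rw [st86_ok.2]; omega)
  by_cases c87 : k < 32580
  · exact chkList_get _ _ _ st87 32324 st87_ok.1 k (by omega) (by rw [st87_ok.2]; omega)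
  by_cases c88 : k < 32836
  · exact chkList_get _ _ _ st88 32580 st88_ok.1 k (by omega) (by rw [st88_ok.2]; omega)
  by_cases c89 : k < 33092
  · exact chkList_get _ _ _ st89 32836 st89_ok.1 k (by omega) (by rw [st89_ok.2]; omega)
  by_cases c90 : k < 33348
  · exact chkList_get _ _ _ st90 33092 st90_ok.1 k (by omega) (by rw [st90_ok.2]; omega)
  by_cases c91 : k < 33604
  · exact chkList_get _ _ _ st91 33348 st91_ok.1 k (by omega) (by rw [st91_ok.2]; omega)
  by_cases c92 : k < 33860
  · exact chkList_get _ _ _ st92 33604 st92_ok.1 k (by omega) (by rw [st92_ok.2]; omega)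
  by_cases c93 : k < 34116
  · exact chkList_get _ _ _ st93 33860 st93_ok.1 k (by omega) (by rw [st93_ok.2]; omega)
  by_cases c94 : k < 34372
  · exact chkList_get _ _ _ st94 34116 st94_ok.1 k (by omega) (by rw [st94_ok.2]; omega)
  by_cases c95 : k < 34628
  · exact chkList_get _ _ _ st95 34372 st95_ok.1 k (by omega) (by rw [st95_ok.2]; omega)
  by_cases c96 : k < 34884
  · exact chkList_get _ _ _ st96 34628 st96_ok.1 k (by omega) (by rw [st96_ok.2]; omega)
  by_cases c97 : k < 35140
  · exact chkList_get _ _ _ st97 34884 st97_ok.1 k (by omega) (by rw [st97_ok.2]; omega)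
  by_cases c98 : k < 35396
  · exact chkList_get _ _ _ st98 35140 st98_ok.1 k (by omega) (by rw [st98_ok.2]; omega)
  by_cases c99 : k < 35652
  · exact chkList_get _ _ _ st99 35396 st99_ok.1 k (by omega) (by rw [st99_ok.2]; omega)
  by_cases c100 : k < 35908
  · exact chkList_get _ _ _ st100 35652 st100_ok.1 k (by omega) (by rw [st100_ok.2]; omega)
  by_cases c101 : k < 36164
  · exact chkList_get _ _ _ st101 35908 st101_ok.1 k (by omega) (by rw [st101_ok.2]; omega)
  by_cases c102 : k < 36420
  · exact chkList_get _ _ _ st102 36164 st102_ok.1 k (by omega) (by rw [st102_ok.2]; omega)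
  by_cases c103 : k < 36676
  · exact chkList_get _ _ _ st103 36420 st103_ok.1 k (by omega) (by rw [st103_ok.2]; omega)
  by_cases c104 : k < 36932
  · exact chkList_get _ _ _ st104 36676 st104_ok.1 k (by omega) (by rw [st104_ok.2]; omega)
  by_cases c105 : k < 37188
  · exact chkList_get _ _ _ st105 36932 st105_ok.1 k (by omega) (by rw [st105_ok.2]; omega)
  by_cases c106 : k < 37444
  · exact chkList_get _ _ _ st106 37188 st106_ok.1 k (by omega) (by rw [st106_ok.2]; omega)
  by_cases c107 : k < 37700
  · exact chkList_get _ _ _ st107 37444 st107_ok.1 k (by omega) (by rw [st107_ok.2]; omega)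
  by_cases c108 : k < 37778
  · exact chkList_get _ _ _ st108 37700 st108_ok.1 k (by omega) (by rw [st108_ok.2]; omega)
  omega

end H29.CosetCert.Fi23Lvl1
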