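import Cfsg.Agent.H29.CosetCert.Fi23Order.L2C
import Cfsg.Agent.H29.CosetCert.Fi23Order.L2S0

/-! Certificate data for the order of Fi23, produced outside Lean and checked here. -/

set_option autoImplicit false
set_option maxRecDepth 16000
set_option Elab.async false

namespace H29.CosetCert.Fi23Lvl2

open H29.CosetCert

theorem deds : ∀ k, lvl.nd ≤ k → k < lvl.N → ∃ s, chkDed lvl.F lvl.R lvl.S k s = true := by
  intro k h1 h2
  change 55 ≤ k at h1
  change k < 308 at h2
  by_cases c0 : k < 308
  · exact chkList_get _ _ _ st0 55 st0_ok.1 k (by omega) (by rw [st0_ok.2]; omega)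
  omega

end H29.CosetCert.Fi23Lvl2
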