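import Cfsg.Agent.H29.CosetCert.Fi23.Cert
import Cfsg.Agent.H29.CosetCert.Fi23.Orbit1
import Cfsg.Agent.H29.CosetCert.Fi23.Orbit2
import Cfsg.Agent.H29.CosetCert.Fi23Order.Words
import Cfsg.Agent.H29.CosetCert.Fi23Order.L0Deds
import Cfsg.Agent.H29.CosetCert.Fi23Order.L1Deds
import Cfsg.Agent.H29.CosetCert.Fi23Order.L2Deds
import Cfsg.Agent.H29.CosetCert.Fi23Order.L3Deds
import Cfsg.Agent.H29.CosetCert.Fi23Order.L4Deds
import Cfsg.Agent.H29.CosetCert.Fi23Order.L5Deds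
import Cfsg.Agent.H29.CosetCert.Fi23Order.L6Deds
import Cfsg.Agent.H29.CosetCert.Fi23Order.L7Deds
import Cfsg.Agent.H29.CosetCert.Fi23Order.L8Deds

/-! Order and simplicity of the presented group Fi23. -/

set_option autoImplicit false

namespace H29.CosetCert.Fi23Ord

open H29.CosetCert

theorem bound8 : (maskGroup Fi23Cert.g 4 : Set Cfsg.Spor.Fi23).Finite ∧
    (maskGroup Fi23Cert.g 4 : Set Cfsg.Spor.Fi23).ncard ≤ 2 := by
  obtain ⟨hf, hb⟩ : (maskGroup Fi23Cert.g 0 : Set Cfsg.Spor.Fi23).Finite ∧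
      (maskGroup Fi23Cert.g 0 : Set Cfsg.Spor.Fi23).ncard ≤ 1 := card_maskGroup_zero _
  exact card_maskGroup_le Fi23Cert.g (genAt_sq _ _ Fi23Cert.L Fi23Cert.L_nodes) Fi23Lvl8.lvl
    (rels_of_classified _ _ Fi23Cert.L Fi23Cert.L_all Fi23Cert.L_nodes (E := Fi23Cert.E) (by decide +kernel) Fi23Cert.E_gen)
    Fi23Lvl8.words_ok Fi23Lvl8.defs_ok Fi23Lvl8.deds Fi23Lvl8.node0 (show 0 < 2 by norm_num) Fi23Lvl8.closed
    (b := 1) hf hb

theorem bound7 : (maskGroup Fi23Cert.g 12 : Set Cfsg.Spor.Fi23).Finite ∧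
    (maskGroup Fi23Cert.g 12 : Set Cfsg.Spor.Fi23).ncard ≤ 6 := by
  obtain ⟨hf, hb⟩ : (maskGroup Fi23Cert.g 4 : Set Cfsg.Spor.Fi23).Finite ∧
      (maskGroup Fi23Cert.g 4 : Set Cfsg.Spor.Fi23).ncard ≤ 2 := bound8
  exact card_maskGroup_le Fi23Cert.g (genAt_sq _ _ Fi23Cert.L Fi23Cert.L_nodes) Fi23Lvl7.lvl
    (rels_of_classified _ _ Fi23Cert.L Fi23Cert.L_all Fi23Cert.L_nodes (E := Fi23Cert.E) (by decide +kernel) Fi23Cert.E_gen)
    Fi23Lvl7.words_ok Fi23Lvl7.defs_ok Fi23Lvl7.deds Fi23Lvl7.node0 (show 0 < 3 by norm_num) Fi23Lvl7.closed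
    (b := 2) hf hb

theorem bound6 : (maskGroup Fi23Cert.g 28 : Set Cfsg.Spor.Fi23).Finite ∧
    (maskGroup Fi23Cert.g 28 : Set Cfsg.Spor.Fi23).ncard ≤ 24 := by
  obtain ⟨hf, hb⟩ : (maskGroup Fi23Cert.g 12 : Set Cfsg.Spor.Fi23).Finite ∧
      (maskGroup Fi23Cert.g 12 : Set Cfsg.Spor.Fi23).ncard ≤ 6 := bound7
  exact card_maskGroup_le Fi23Cert.g (genAt_sq _ _ Fi23Cert.L Fi23Cert.L_nodes) Fi23Lvl6.lvl
    (rels_of_classified _ _ Fi23Cert.L Fi23Cert.L_all Fi23Cert.L_nodes (E := Fi23Cert.E) (by decide +kernel) Fi23Cert.E_gen)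
    Fi23Lvl6.words_ok Fi23Lvl6.defs_ok Fi23Lvl6.deds Fi23Lvl6.node0 (show 0 < 4 by norm_num) Fi23Lvl6.closed
    (b := 6) hf hb

theorem bound5 : (maskGroup Fi23Cert.g 284 : Set Cfsg.Spor.Fi23).Finite ∧
    (maskGroup Fi23Cert.g 284 : Set Cfsg.Spor.Fi23).ncard ≤ 192 := by
  obtain ⟨hf, hb⟩ : (maskGroup Fi23Cert.g 28 : Set Cfsg.Spor.Fi23).Finite ∧
      (maskGroup Fi23Cert.g 28 : Set Cfsg.Spor.Fi23).ncard ≤ 24 := bound6
  exact card_maskGroup_le Fi23Cert.g (genAt_sq _ _ Fi23Cert.L Fi23Cert.L_nodes) Fi23Lvl5.lvl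
    (rels_of_classified _ _ Fi23Cert.L Fi23Cert.L_all Fi23Cert.L_nodes (E := Fi23Cert.E) (by decide +kernel) Fi23Cert.E_gen)
    Fi23Lvl5.words_ok Fi23Lvl5.defs_ok Fi23Lvl5.deds Fi23Lvl5.node0 (show 0 < 8 by norm_num) Fi23Lvl5.closed
    (b := 24) hf hb

theorem bound4 : (maskGroup Fi23Cert.g 286 : Set Cfsg.Spor.Fi23).Finite ∧
    (maskGroup Fi23Cert.g 286 : Set Cfsg.Spor.Fi23).ncard ≤ 1920 := by
  obtain ⟨hf, hb⟩ : (maskGroup Fi23Cert.g 284 : Set Cfsg.Spor.Fi23).Finite ∧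
      (maskGroup Fi23Cert.g 284 : Set Cfsg.Spor.Fi23).ncard ≤ 192 := bound5
  exact card_maskGroup_le Fi23Cert.g (genAt_sq _ _ Fi23Cert.L Fi23Cert.L_nodes) Fi23Lvl4.lvl
    (rels_of_classified _ _ Fi23Cert.L Fi23Cert.L_all Fi23Cert.L_nodes (E := Fi23Cert.E) (by decide +kernel) Fi23Cert.E_gen)
    Fi23Lvl4.words_ok Fi23Lvl4.defs_ok Fi23Lvl4.deds Fi23Lvl4.node0 (show 0 < 10 by norm_num) Fi23Lvl4.closed
    (b := 192) hf hb

theorem bound3 : (maskGroup Fi23Cert.g 318 : Set Cfsg.Spor.Fi23).Finite ∧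
    (maskGroup Fi23Cert.g 318 : Set Cfsg.Spor.Fi23).ncard ≤ 51840 := by
  obtain ⟨hf, hb⟩ : (maskGroup Fi23Cert.g 286 : Set Cfsg.Spor.Fi23).Finite ∧
      (maskGroup Fi23Cert.g 286 : Set Cfsg.Spor.Fi23).ncard ≤ 1920 := bound4
  exact card_maskGroup_le Fi23Cert.g (genAt_sq _ _ Fi23Cert.L Fi23Cert.L_nodes) Fi23Lvl3.lvl
    (rels_of_classified _ _ Fi23Cert.L Fi23Cert.L_all Fi23Cert.L_nodes (E := Fi23Cert.E) (by decide +kernel) Fi23Cert.E_gen)
    Fi23Lvl3.words_ok Fi23Lvl3.defs_ok Fi23Lvl3.deds Fi23Lvl3.node0 (show 0 < 27 by norm_num) Fi23Lvl3.closed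
    (b := 1920) hf hb

theorem bound2 : (maskGroup Fi23Cert.g 382 : Set Cfsg.Spor.Fi23).Finite ∧
    (maskGroup Fi23Cert.g 382 : Set Cfsg.Spor.Fi23).ncard ≤ 2903040 := by
  obtain ⟨hf, hb⟩ : (maskGroup Fi23Cert.g 318 : Set Cfsg.Spor.Fi23).Finite ∧
      (maskGroup Fi23Cert.g 318 : Set Cfsg.Spor.Fi23).ncard ≤ 51840 := bound3
  exact card_maskGroup_le Fi23Cert.g (genAt_sq _ _ Fi23Cert.L Fi23Cert.L_nodes) Fi23Lvl2.lvl
    (rels_of_classified _ _ Fi23Cert.L Fi23Cert.L_all Fi23Cert.L_nodes (E := Fi23Cert.E) (by decide +kernel) Fi23Cert.E_gen)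
    Fi23Lvl2.words_ok Fi23Lvl2.defs_ok Fi23Lvl2.deds Fi23Lvl2.node0 (show 0 < 56 by norm_num) Fi23Lvl2.closed
    (b := 51840) hf hb

theorem bound1 : (maskGroup Fi23Cert.g 894 : Set Cfsg.Spor.Fi23).Finite ∧
    (maskGroup Fi23Cert.g 894 : Set Cfsg.Spor.Fi23).ncard ≤ 9170703360 := by
  obtain ⟨hf, hb⟩ : (maskGroup Fi23Cert.g 382 : Set Cfsg.Spor.Fi23).Finite ∧
      (maskGroup Fi23Cert.g 382 : Set Cfsg.Spor.Fi23).ncard ≤ 2903040 := bound2
  exact card_maskGroup_le Fi23Cert.g (genAt_sq _ _ Fi23Cert.L Fi23Cert.L_nodes) Fi23Lvl1.lvl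
    (rels_of_classified _ _ Fi23Cert.L Fi23Cert.L_all Fi23Cert.L_nodes (E := Fi23Cert.E) (by decide +kernel) Fi23Cert.E_gen)
    Fi23Lvl1.words_ok Fi23Lvl1.defs_ok Fi23Lvl1.deds Fi23Lvl1.node0 (show 0 < 3159 by norm_num) Fi23Lvl1.closed
    (b := 2903040) hf hb

theorem bound0 : (maskGroup Fi23Cert.g 895 : Set Cfsg.Spor.Fi23).Finite ∧
    (maskGroup Fi23Cert.g 895 : Set Cfsg.Spor.Fi23).ncard ≤ 129123503308800 := by
  obtain ⟨hf, hb⟩ : (maskGroup Fi23Cert.g 894 : Set Cfsg.Spor.Fi23).Finite ∧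
      (maskGroup Fi23Cert.g 894 : Set Cfsg.Spor.Fi23).ncard ≤ 9170703360 := bound1
  exact card_maskGroup_le Fi23Cert.g (genAt_sq _ _ Fi23Cert.L Fi23Cert.L_nodes) Fi23Lvl0.lvl
    (rels_of_classified _ _ Fi23Cert.L Fi23Cert.L_all Fi23Cert.L_nodes (E := Fi23Cert.E) (by decide +kernel) Fi23Cert.E_gen)
    Fi23Lvl0.words_ok Fi23Lvl0.defs_ok Fi23Lvl0.deds Fi23Lvl0.node0 (show 0 < 14080 by norm_num) Fi23Lvl0.closed
    (b := 9170703360) hf hb

theorem mask_eq : maskGroup Fi23Cert.g 895 = Fi23Cert.H := by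
  refine congrArg Subgroup.closure (Set.ext fun e => ?_)
  constructor
  · rintro ⟨x, hx, rfl⟩
    have hlt : x < 10 := by
      by_contra h
      rw [Nat.testBit_lt_two_pow (lt_of_lt_of_le (show 895 < 2 ^ 10 by norm_num)
        (Nat.pow_le_pow_right (by norm_num) (by omega)))] at hx
      simp at hx
    interval_cases x <;> first
      | (simp [Nat.testBit, Nat.shiftRight_eq_div_pow] at hx; done)
      | (simp [Fi23Data.S, Fi23Cert.g, Fi23Cert.g, genAt])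
  · intro he
    simp [Fi23Data.S, Fi23Cert.g, genAt] at he
    rcases he with rfl | rfl | rfl | rfl | rfl | rfl | rfl | rfl | rfl
    · exact ⟨0, by decide, rfl⟩
    · exact ⟨1, by decide, rfl⟩
    · exact ⟨2, by decide, rfl⟩
    · exact ⟨3, by decide, rfl⟩
    · exact ⟨4, by decide, rfl⟩
    · exact ⟨5, by decide, rfl⟩
    · exact ⟨6, by decide, rfl⟩
    · exact ⟨8, by decide, rfl⟩
    · exact ⟨9, by decide, rfl⟩

theorem finite_card : Finite Cfsg.Spor.Fi23 ∧ Nat.card Cfsg.Spor.Fi23 ≤ 4089470473293004800 := by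
  obtain ⟨hf, hb⟩ := bound0
  rw [mask_eq] at hf hb
  have h := Fi23Cert.H.card_mul_index
  rw [Fi23Cert.cert.index_eq, show Fi23Cert.cert.n = 31671 from rfl, ← Nat.card_coe_set_eq] at *
  haveI : Finite Fi23Cert.H := hf.to_subtype
  haveI : Fi23Cert.H.FiniteIndex := ⟨by rw [Fi23Cert.cert.index_eq]; show 31671 ≠ 0; norm_num⟩
  refine ⟨Subgroup.finite_iff_finite_and_finiteIndex Fi23Cert.H |>.2 ⟨‹_›, ‹_›⟩, ?_⟩
  rw [← h]
  calc Nat.card Fi23Cert.H * 31671 ≤ 129123503308800 * 31671 := Nat.mul_le_mul_right _ hb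
    _ = 4089470473293004800 := by norm_num

theorem faithful : Function.Injective Fi23Cert.cert.ρ ∧
    Nat.card Cfsg.Spor.Fi23 = 4089470473293004800 ∧ ∀ v w : List ℕ,
      sameAt Fi23Data.T (Fi23Words.levels.map WLevel.b) v w = true →
        (v.map Fi23Cert.g).prod = (w.map Fi23Cert.g).prod := by
  haveI := finite_card.1
  exact Fi23Cert.cert.faithful_of_chainW Fi23Words.chain_ok Fi23Words.sizes (by norm_num)
    finite_card.2

theorem injective_card :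
    Function.Injective Fi23Cert.cert.ρ ∧ Nat.card Cfsg.Spor.Fi23 = 4089470473293004800 :=
  ⟨faithful.1, faithful.2.1⟩

theorem cover : 1 ||| Fi23Data.orb1 ||| Fi23Data.orb2 = 2 ^ 31671 - 1 := by decide +kernel

theorem simple : IsSimpleGroup Cfsg.Spor.Fi23 := by
  haveI := finite_card.1
  haveI : Nontrivial Cfsg.Spor.Fi23 :=
    Finite.one_lt_card_iff_nontrivial.1 (by rw [injective_card.2]; norm_num)
  obtain ⟨q₁, h₁, h₁'⟩ := Fi23Cert.cert.exists_orbit (s := 1) (by decide)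
    Fi23Data.orb1_grow Fi23Data.orb1_inv Fi23Data.orb1_count
  obtain ⟨q₂, h₂, h₂'⟩ := Fi23Cert.cert.exists_orbit (s := 52) (by decide)
    Fi23Data.orb2_grow Fi23Data.orb2_inv Fi23Data.orb2_count
  have hH : Nat.card Fi23Cert.H = 129123503308800 := by
    have h := Fi23Cert.H.card_mul_index
    rw [Fi23Cert.cert.index_eq, show Fi23Cert.cert.n = 31671 from rfl, injective_card.2] at h
    exact Nat.eq_of_mul_eq_mul_right (show 0 < 31671 by norm_num) (h.trans (by norm_num))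
  refine Fi23Cert.cert.isSimpleGroup_of_words (base := Fi23Words.base)
    (fun v w h => faithful.2.2 v w (by rw [Fi23Words.base_eq]; exact h))
    (fun N hN hbot => Fi23Cert.cert.sup_eq_top_of_orbits injective_card.1
      ![Fi23Data.orb1, Fi23Data.orb2] ![28160, 3510] ![q₁, q₂] ?_ ?_ ?_ ?_ ?_ ?_ hN hbot)
    (x := Fi23Words.x) (p := 17) (by rw [hH]; decide +kernel) Fi23Words.pow_ok Fi23Words.items
    Fi23Words.items_ok
  · intro i; fin_cases i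
    exacts [h₁, h₂]
  · intro i; fin_cases i
    exacts [h₁', h₂']
  · intro c hc hne
    have h := congrArg (fun v => Nat.testBit v c) cover
    change c < 31671 at hc
    simp only [Nat.testBit_two_pow_sub_one, Nat.testBit_lor, decide_eq_true hc,
      Bool.or_eq_true] at h
    rcases h with (h | h) | h
    · exact absurd (Nat.testBit_one_eq_true_iff_self_eq_zero.1 h) hne
    · exact ⟨0, h⟩
    · exact ⟨1, h⟩
  · intro i; fin_cases i <;> decide +kernel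
  · intro i j hij
    fin_cases i <;> fin_cases j <;> first | exact absurd rfl hij | decide +kernel
  · show ∀ S : Finset (Fin 2), S.Nonempty →
      (1 + ∑ i ∈ S, (![28160, 3510] : Fin 2 → ℕ) i) ∣ 31671 → S = Finset.univ
    decide +kernel

end H29.CosetCert.Fi23Ord
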