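import Cfsg.Agent.H29.CosetCert.Fi23Order.L0

/-! Certificate data for the order of Fi23, produced outside Lean and checked here. -/

set_option autoImplicit false
set_option maxRecDepth 16000
set_option Elab.async false

namespace H29.CosetCert.Fi23Lvl0

open H29.CosetCert

theorem closed12 : allIn lvl.closedAt 6000 500 = true := by decide +kernel

theorem closed13 : allIn lvl.closedAt 6500 500 = true := by decide +kernel

theorem closed14 : allIn lvl.closedAt 7000 500 = true := by decide +kernel

theorem closed15 : allIn lvl.closedAt 7500 500 = true := by decide +kernel

theorem closed16 : allIn lvl.closedAt 8000 500 = true := by decide +kernel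

theorem closed17 : allIn lvl.closedAt 8500 500 = true := by decide +kernel

end H29.CosetCert.Fi23Lvl0
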