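import Cfsg.Agent.H29.CosetCert.Fi23Order.L0C0
import Cfsg.Agent.H29.CosetCert.Fi23Order.L0C1
import Cfsg.Agent.H29.CosetCert.Fi23Order.L0C2
import Cfsg.Agent.H29.CosetCert.Fi23Order.L0C3
import Cfsg.Agent.H29.CosetCert.Fi23Order.L0C4

/-! Certificate data for the order of Fi23, produced outside Lean and checked here. -/

set_option autoImplicit false
set_option maxRecDepth 16000
set_option Elab.async false

namespace H29.CosetCert.Fi23Lvl0

open H29.CosetCert

theorem closed : allIn lvl.closedAt 0 14080 = true := by
  rw [allIn_iff]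
  intro c _ hc
  by_cases h0 : c < 500
  · exact (allIn_iff _ _ _).1 closed0 c (by omega) (by omega)
  by_cases h1 : c < 1000
  · exact (allIn_iff _ _ _).1 closed1 c (by omega) (by omega)
  by_cases h2 : c < 1500
  · exact (allIn_iff _ _ _).1 closed2 c (by omega) (by omega)
  by_cases h3 : c < 2000
  · exact (allIn_iff _ _ _).1 closed3 c (by omega) (by omega)
  by_cases h4 : c < 2500
  · exact (allIn_iff _ _ _).1 closed4 c (by omega) (by omega)
  by_cases h5 : c < 3000
  · exact (allIn_iff _ _ _).1 closed5 c (by omega) (by omega)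
  by_cases h6 : c < 3500
  · exact (allIn_iff _ _ _).1 closed6 c (by omega) (by omega)
  by_cases h7 : c < 4000
  · exact (allIn_iff _ _ _).1 closed7 c (by omega) (by omega)
  by_cases h8 : c < 4500
  · exact (allIn_iff _ _ _).1 closed8 c (by omega) (by omega)
  by_cases h9 : c < 5000
  · exact (allIn_iff _ _ _).1 closed9 c (by omega) (by omega)
  by_cases h10 : c < 5500
  · exact (allIn_iff _ _ _).1 closed10 c (by omega) (by omega)
  by_cases h11 : c < 6000
  · exact (allIn_iff _ _ _).1 closed11 c (by omega) (by omega)
  by_cases h12 : c < 6500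
  · exact (allIn_iff _ _ _).1 closed12 c (by omega) (by omega)
  by_cases h13 : c < 7000
  · exact (allIn_iff _ _ _).1 closed13 c (by omega) (by omega)
  by_cases h14 : c < 7500
  · exact (allIn_iff _ _ _).1 closed14 c (by omega) (by omega)
  by_cases h15 : c < 8000
  · exact (allIn_iff _ _ _).1 closed15 c (by omega) (by omega)
  by_cases h16 : c < 8500
  · exact (allIn_iff _ _ _).1 closed16 c (by omega) (by omega)
  by_cases h17 : c < 9000
  · exact (allIn_iff _ _ _).1 closed17 c (by omega) (by omega)
  by_cases h18 : c < 9500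
  · exact (allIn_iff _ _ _).1 closed18 c (by omega) (by omega)
  by_cases h19 : c < 10000
  · exact (allIn_iff _ _ _).1 closed19 c (by omega) (by omega)
  by_cases h20 : c < 10500
  · exact (allIn_iff _ _ _).1 closed20 c (by omega) (by omega)
  by_cases h21 : c < 11000
  · exact (allIn_iff _ _ _).1 closed21 c (by omega) (by omega)
  by_cases h22 : c < 11500
  · exact (allIn_iff _ _ _).1 closed22 c (by omega) (by omega)
  by_cases h23 : c < 12000
  · exact (allIn_iff _ _ _).1 closed23 c (by omega) (by omega)
  by_cases h24 : c < 12500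
  · exact (allIn_iff _ _ _).1 closed24 c (by omega) (by omega)
  by_cases h25 : c < 13000
  · exact (allIn_iff _ _ _).1 closed25 c (by omega) (by omega)
  by_cases h26 : c < 13500
  · exact (allIn_iff _ _ _).1 closed26 c (by omega) (by omega)
  by_cases h27 : c < 14000
  · exact (allIn_iff _ _ _).1 closed27 c (by omega) (by omega)
  by_cases h28 : c < 14080
  · exact (allIn_iff _ _ _).1 closed28 c (by omega) (by omega)
  omega

end H29.CosetCert.Fi23Lvl0
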