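import Cfsg.Agent.H29.CosetCert.Fi23Order.L1

/-! Certificate data for the order of Fi23, produced outside Lean and checked here. -/

set_option autoImplicit false
set_option maxRecDepth 16000
set_option Elab.async false

namespace H29.CosetCert.Fi23Lvl1

open H29.CosetCert

theorem closed6 : allIn lvl.closedAt 3000 159 = true := by decide +kernel

end H29.CosetCert.Fi23Lvl1
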