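import Cfsg.Agent.H29.CosetCert.Fi23Order.L1C0
import Cfsg.Agent.H29.CosetCert.Fi23Order.L1C1

/-! Certificate data for the order of Fi23, produced outside Lean and checked here. -/

set_option autoImplicit false
set_option maxRecDepth 16000
set_option Elab.async false

namespace H29.CosetCert.Fi23Lvl1

open H29.CosetCert

theorem closed : allIn lvl.closedAt 0 3159 = true := by
  rw [allIn_iff]
  intro c _ hc
  by_cases h0 : c < 500
  · exact (allIn_iff _ _ _).1 closed0 c (by omega) (by omega)
  by_cases h1 : c < 1000
  · exact (allIn_iff _ _ _).1 closed1 c (by omega) (by omega)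
  by_cases h2 : c < 1500
  · exact (allIn_iff _ _ _).1 closed2 c (by omega) (by omega)
  by_cases h3 : c < 2000
  · exact (allIn_iff _ _ _).1 closed3 c (by omega) (by omega)
  by_cases h4 : c < 2500
  · exact (allIn_iff _ _ _).1 closed4 c (by omega) (by omega)
  by_cases h5 : c < 3000
  · exact (allIn_iff _ _ _).1 closed5 c (by omega) (by omega)
  by_cases h6 : c < 3159
  · exact (allIn_iff _ _ _).1 closed6 c (by omega) (by omega)
  omega

end H29.CosetCert.Fi23Lvl1
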