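import Cfsg.Agent.H29.CosetCert.Fi23Order.L5

/-! Certificate data for the order of Fi23, produced outside Lean and checked here. -/

set_option autoImplicit false
set_option maxRecDepth 16000
set_option Elab.async false

namespace H29.CosetCert.Fi23Lvl5

open H29.CosetCert

/-- Steps. -/
noncomputable def st0 : List ℕ :=
  [11,
  12,
  13,
  0xf0000100003000000000100002,
  0x130000100003000000000100005,
  0x20000000011000010000300000000050000200004,
  0x8000060000500000000030000300001,
  0x4000190000500000000030000300002,
  0x1b0001d0001b00002000010000300005,
  0x40000200015000030000500000000050000300000,
  0x90001f0000800000000030000400002,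
  0x60000200017000030000700005000000000400003,
  0xa0000800025000090000b00005000000000600000,
  0xa0001b000210001a0000b00000000050000600003,
  0xc000270000d00003000000000700002,
  0xc000290000d00003000000000700005,
  0xc0000a0001f0000b0000d00005000000000700004]

theorem st0_ok : chkList lvl.F lvl.R lvl.S st0 7 = true ∧ st0.length = 17 := by
  decide +kernel

end H29.CosetCert.Fi23Lvl5
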