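import Cfsg.Agent.H29.CosetCert.Upper
import Cfsg.Agent.H29.CosetCert.Pick16

/-! Certificate data for the order of Fi23, produced outside Lean and checked here. -/

set_option autoImplicit false
set_option maxRecDepth 16000
set_option Elab.async false

namespace H29.CosetCert.Fi23Lvl6

open H29.CosetCert

/-- The facts. -/
noncomputable def facts : Tr :=
  (.node
(.leaf 0x33000300003400030000240002000012000100000300000000020000000022000300001300020000040001)
(.leaf 0))

/-- Row. -/
noncomputable def row2 : Tr :=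
  (.node
(.leaf 0x2000300010000)
(.leaf 0))

/-- Edges. -/
noncomputable def edge2 : Tr :=
  (.node
(.leaf 0x5000040000b00007)
(.leaf 0))

/-- Row. -/
noncomputable def row3 : Tr :=
  (.node
(.leaf 0x3000100020000)
(.leaf 0))

/-- Edges. -/
noncomputable def edge3 : Tr :=
  (.node
(.leaf 0x11000030000200009)
(.leaf 0))

/-- Row. -/
noncomputable def row4 : Tr :=
  (.node
(.leaf 0x3000200000001)
(.leaf 0))

/-- Edges. -/
noncomputable def edge4 : Tr :=
  (.node
(.leaf 0xf0000d0000100000)
(.leaf 0))

/-- Table rows. -/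
noncomputable def rows : List Tr := [(.leaf 0), (.leaf 0), row2, row3, row4, (.leaf 0), (.leaf 0), (.leaf 0), (.leaf 0), (.leaf 0)]

/-- Edge rows. -/
noncomputable def edges : List Tr := [(.leaf 0), (.leaf 0), edge2, edge3, edge4, (.leaf 0), (.leaf 0), (.leaf 0), (.leaf 0), (.leaf 0)]

/-- The level. -/
noncomputable def lvl : Lvl where
  mask := 28
  sub := 12
  n := 4
  R := [[2, 3, 2, 3, 2, 3],
  [2, 4, 2, 4],
  [3, 4, 3, 4, 3, 4],
  [2, 2],
  [3, 3],
  [4, 4],
  []]
  S := [[2], [3]]
  F := factAt facts
  nd := 3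
  N := 9
  T x c := pick16 (rows.getD x (.leaf 0)) c
  nodeOf c := pick20 (.node
(.leaf 0x3000020000100000)
(.leaf 0)) c
  edge x c := pick20 (edges.getD x (.leaf 0)) c

theorem words_ok : lvl.wordsOK = true := by decide +kernel

theorem defs_ok : allIn (chkDef lvl.F) 0 lvl.nd = true := by decide +kernel

theorem node0 : lvl.nodeOf 0 = 0 := by decide +kernel

end H29.CosetCert.Fi23Lvl6
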