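import Cfsg.Agent.H29.CosetCert.Fi23Order.L8C0

/-! Certificate data for the order of Fi23, produced outside Lean and checked here. -/

set_option autoImplicit false
set_option maxRecDepth 16000
set_option Elab.async false

namespace H29.CosetCert.Fi23Lvl8

open H29.CosetCert

theorem closed : allIn lvl.closedAt 0 2 = true := by
  rw [allIn_iff]
  intro c _ hc
  by_cases h0 : c < 2
  · exact (allIn_iff _ _ _).1 closed0 c (by omega) (by omega)
  omega

end H29.CosetCert.Fi23Lvl8
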